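import Groth.Agent.Lib.WittExt23.Classify
import Groth.Agent.Lib.DiagGL.Points
import Groth.Agent.Lib.Unip23.Primitive

/-!
# Coordinates of morphisms from affine groups to Witt groups

`wpt a : sp k A ⟶ W_1` is the point with coordinate `a`; it is a homomorphism iff `a` is primitive (`isMonHom_wpt`, `isPrim_of_isMonHom`).
-/

set_option autoImplicit false
set_option linter.style.haveILetI false
set_option backward.isDefEq.respectTransparency.types false
set_option maxSynthPendingDepth 3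

universe u

open CategoryTheory AlgebraicGeometry MonObj MonoidalCategory CartesianMonoidalCategory
open Groth.Agent.WittHom23 Groth.Agent.WittExt23
open scoped TensorProduct

noncomputable section

namespace Groth.Agent.UniStr23

variable {p : ℕ} [hp : Fact p.Prime] {k : Type u} [Field k] [CharP k p] {m : ℕ}
variable {A A' : Type u} [CommRing A] [CommRing A'] [Algebra k A] [Algebra k A']

/-- Functions on `Spec A`. -/
def gl : A →+* Γ((CoactBr.sp k A).left, ⊤) := (Scheme.ΓSpecIso (CommRingCat.of A)).inv.hom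

theorem gl_bijective : Function.Bijective (gl (k := k) (A := A)) :=
  ConcreteCategory.bijective_of_isIso (Scheme.ΓSpecIso (CommRingCat.of A)).inv

theorem ev_id (a : A) : DiagGL.ev (𝟙 (CoactBr.sp k A)) a = gl (k := k) a := by
  rw [← CoactBr.pt_id, DiagGL.ev_pt]
  rfl

theorem ev_eq_app {T : Over (Spec (CommRingCat.of k))} (x : T ⟶ CoactBr.sp k A) (a : A) :
    DiagGL.ev x a = x.left.appTop.hom (gl (k := k) a) := by
  rw [← ev_id, ← DiagGL.ev_comp, Category.comp_id]

theorem ev_pt' (φ : A' →ₐ[k] A) (a : A') : DiagGL.ev (CoactBr.pt φ) a = gl (k := k) (φ a) := DiagGL.ev_pt φ a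

variable (p) in
/-- The morphism to `W_1` with the given coordinate. -/
def wpt (a : A) : CoactBr.sp k A ⟶ Wk p k 1 := ofVec (TruncatedWittVector.mk p fun _ => gl (k := k) a)

theorem hd_wpt (a : A) : hd (wpt (k := k) p a) = gl (k := k) a := by
  rw [wpt]
  show (vec (ofVec _)).coeff 0 = _
  rw [vec_ofVec, TruncatedWittVector.coeff_mk]

theorem hd_comp_wpt {T : Over (Spec (CommRingCat.of k))} (x : T ⟶ CoactBr.sp k A) (a : A) :
    hd (x ≫ wpt (k := k) p a) = DiagGL.ev x a := by
  rw [hd_comp, hd_wpt, ev_eq_app]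

theorem exists_wpt (g : CoactBr.sp k A ⟶ Wk p k 1) : ∃ a : A, wpt (k := k) p a = g := by
  obtain ⟨a, ha⟩ := (gl_bijective (k := k) (A := A)).2 (hd g)
  exact ⟨a, hd_injective (by rw [hd_wpt, ha])⟩

theorem wpt_injective : Function.Injective (wpt (k := k) p : A → _) := fun a b h =>
  (gl_bijective (k := k) (A := A)).1 (by rw [← hd_wpt (p := p), h, hd_wpt])

theorem pt_comp_wpt (φ : A' →ₐ[k] A) (a : A') : CoactBr.pt φ ≫ wpt (k := k) p a = wpt (k := k) p (φ a) :=
  hd_injective (by rw [hd_comp_wpt, ev_pt', hd_wpt])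

theorem wpt_add (a b : A) : wpt (k := k) p (a + b) = wpt (k := k) p a * wpt (k := k) p b :=
  hd_injective (by rw [hd_mul, hd_wpt, hd_wpt, hd_wpt, map_add])

theorem hd_one {T : Over (Spec (CommRingCat.of k))} : hd (1 : T ⟶ Wk p k 1) = 0 := by
  show (vec (1 : T ⟶ Wk p k 1)).coeff 0 = 0
  rw [vec_one, TruncatedWittVector.coeff_zero]

theorem wpt_zero : wpt (k := k) p (0 : A) = 1 := hd_injective (by rw [hd_wpt, map_zero, hd_one])

/-- Coordinates of a morphism into `W_m`. -/
theorem eq_of_coeff {X : Over (Spec (CommRingCat.of k))} {f g : X ⟶ Wk p k m}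
    (h : ∀ i, (vec f).coeff i = (vec g).coeff i) : f = g := vec_injective (TruncatedWittVector.ext h)

theorem cancel_pt {φ : A' →ₐ[k] A} (hφ : Function.Injective φ) {f g : CoactBr.sp k A' ⟶ Wk p k m}
    (h : CoactBr.pt φ ≫ f = CoactBr.pt φ ≫ g) : f = g := by
  refine eq_of_coeff fun i => ?_
  have h1 := congrArg (fun z => (vec z).coeff i) h
  simp only [vec_comp, WittGrp.coeff_truncMap] at h1
  obtain ⟨a, ha⟩ := (gl_bijective (k := k) (A := A')).2 ((vec f).coeff i)
  obtain ⟨b, hb⟩ := (gl_bijective (k := k) (A := A')).2 ((vec g).coeff i)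
  rw [← ha, ← hb] at h1
  replace h1 : DiagGL.ev (CoactBr.pt φ) a = DiagGL.ev (CoactBr.pt φ) b := by rw [ev_eq_app, ev_eq_app]; exact h1
  rw [ev_pt', ev_pt'] at h1
  rw [← ha, ← hb, hφ ((gl_bijective (k := k)).1 h1)]

end Groth.Agent.UniStr23

namespace Groth.Agent.UniStr23

variable {p : ℕ} [hp : Fact p.Prime] {k : Type u} [Field k] [CharP k p]
variable {A : Type u} [CommRing A] [HopfAlgebra k A]

theorem ev_mul_prim {T : Over (Spec (CommRingCat.of k))} (x y : T ⟶ CoactBr.sp k A) {a : A}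
    (ha : Unip23.IsPrim (k := k) a) : DiagGL.ev (x * y) a = DiagGL.ev x a + DiagGL.ev y a := by
  letI := (DiagGL.alg T).toAlgebra
  rw [DiagGL.ev_mul]
  show (Algebra.TensorProduct.lift _ _ _) (Coalgebra.comul (R := k) a) = _
  rw [show Coalgebra.comul (R := k) a = _ from ha]
  simp

theorem isMonHom_wpt {a : A} (ha : Unip23.IsPrim (k := k) a) : IsMonHom (wpt (k := k) p a) := by
  have hmul : ∀ {T : Over (Spec (CommRingCat.of k))} (x y : T ⟶ CoactBr.sp k A),
      (x * y) ≫ wpt (k := k) p a = (x ≫ wpt (k := k) p a) * (y ≫ wpt (k := k) p a) := fun x y =>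
    hd_injective (by rw [hd_mul, hd_comp_wpt, hd_comp_wpt, hd_comp_wpt, ev_mul_prim x y ha])
  refine WittGrp.isMonHom_of_comp_mul _ ?_ fun T x y => hmul x y
  have := hmul (1 : 𝟙_ _ ⟶ CoactBr.sp k A) 1
  rw [_root_.one_mul] at this
  exact left_eq_mul.1 this

theorem pt_inl_mul_pt_inr :
    CoactBr.pt (Algebra.TensorProduct.includeLeft : A →ₐ[k] A ⊗[k] A) *
      CoactBr.pt (Algebra.TensorProduct.includeRight : A →ₐ[k] A ⊗[k] A) =
      CoactBr.pt (Bialgebra.comulAlgHom k A) := by
  rw [CoactBr.pt_mul_pt]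
  congr 1
  refine AlgHom.ext fun a => ?_
  rw [AlgHom.comp_apply]
  induction Bialgebra.comulAlgHom k A a with
  | zero => simp
  | tmul x y => simp
  | add x y hx hy => rw [map_add, hx, hy]

theorem isPrim_of_isMonHom {a : A} [IsMonHom (wpt (k := k) p a)] : Unip23.IsPrim (k := k) a := by
  refine (gl_bijective (k := k) (A := A ⊗[k] A)).1 ?_
  have h := congrArg hd (MonObj.mul_comp (CoactBr.pt (Algebra.TensorProduct.includeLeft : A →ₐ[k] A ⊗[k] A))
    (CoactBr.pt (Algebra.TensorProduct.includeRight : A →ₐ[k] A ⊗[k] A)) (wpt (k := k) p a))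
  rw [pt_inl_mul_pt_inr, hd_mul, hd_comp_wpt, hd_comp_wpt, hd_comp_wpt, ev_pt', ev_pt', ev_pt', ← map_add] at h
  exact h

end Groth.Agent.UniStr23
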