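import Groth.Agent.Lib.UniStr23.WP
import Groth.Agent.Lib.UniStr23.Bridge

/-!
# Coordinates on products of Witt groups

`toAff`, `aff_ext`: points of `Spec k[X_σ]`; `wpAffIso`: a product of Witt groups is an affine space;
`affProdIso`: products of affine spaces.
-/

set_option autoImplicit false
set_option linter.style.haveILetI false
set_option backward.isDefEq.respectTransparency.types false
set_option maxSynthPendingDepth 3

universe u

open CategoryTheory AlgebraicGeometry MonObj MonoidalCategory CartesianMonoidalCategory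
open Groth.Agent.WittHom23 Groth.Agent.WittExt23

noncomputable section

namespace Groth.Agent.UniStr23

variable {k : Type u} [Field k]

/-- The affine space with coordinates indexed by `σ`. -/
abbrev Aff (k : Type u) [Field k] (σ : Type) : Over (Spec (CommRingCat.of k)) := CoactBr.sp k (MvPolynomial σ k)

variable {σ τ : Type} {T T' : Over (Spec (CommRingCat.of k))}

/-- The point with given coordinates. -/
def toAff (x : σ → Γ(T.left, ⊤)) : T ⟶ Aff k σ :=
  DiagGL.mk (MvPolynomial.eval₂Hom (DiagGL.alg T) x) fun r => MvPolynomial.eval₂Hom_C _ _ r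

theorem ev_toAff (x : σ → Γ(T.left, ⊤)) (i : σ) : DiagGL.ev (toAff x) (MvPolynomial.X i) = x i := by
  rw [toAff, DiagGL.ev_mk]
  exact MvPolynomial.eval₂Hom_X' _ _ i

theorem aff_ext {f g : T ⟶ Aff k σ} (h : ∀ i, DiagGL.ev f (MvPolynomial.X i) = DiagGL.ev g (MvPolynomial.X i)) :
    f = g :=
  DiagGL.ev_injective (RingHom.congr_fun (MvPolynomial.ringHom_ext
    (fun r => by
      rw [show (MvPolynomial.C r : MvPolynomial σ k) = algebraMap k _ r from rfl, DiagGL.ev_algebraMap, DiagGL.ev_algebraMap]) h))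

/-- The product of two affine spaces. -/
def affProdIso : Aff k σ ⊗ Aff k τ ≅ Aff k (σ ⊕ τ) where
  hom := toAff (Sum.elim (fun i => DiagGL.ev (fst (Aff k σ) (Aff k τ)) (MvPolynomial.X i))
    fun i => DiagGL.ev (snd (Aff k σ) (Aff k τ)) (MvPolynomial.X i))
  inv := lift (toAff fun i => gl (k := k) (MvPolynomial.X (Sum.inl i)))
    (toAff fun i => gl (k := k) (MvPolynomial.X (Sum.inr i)))
  hom_inv_id := CartesianMonoidalCategory.hom_ext _ _
    (aff_ext fun i => by
      rw [Category.id_comp, Category.assoc, lift_fst, DiagGL.ev_comp, ev_toAff, ← ev_eq_app, ev_toAff]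
      rfl)
    (aff_ext fun i => by
      rw [Category.id_comp, Category.assoc, lift_snd, DiagGL.ev_comp, ev_toAff, ← ev_eq_app, ev_toAff]
      rfl)
  inv_hom_id := aff_ext fun i => by
    rw [DiagGL.ev_comp, ev_toAff, ev_id]
    cases i with
    | inl i => rw [Sum.elim_inl, ← DiagGL.ev_comp, lift_fst, ev_toAff]
    | inr i => rw [Sum.elim_inr, ← DiagGL.ev_comp, lift_snd, ev_toAff]

/-- Renaming coordinates. -/
def affCongr (e : σ ≃ τ) : Aff k σ ≅ Aff k τ where
  hom := toAff fun j => gl (k := k) (MvPolynomial.X (e.symm j))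
  inv := toAff fun i => gl (k := k) (MvPolynomial.X (e i))
  hom_inv_id := aff_ext fun i => by
    rw [DiagGL.ev_comp, ev_toAff, ← ev_eq_app, ev_toAff, Equiv.symm_apply_apply, ev_id]
  inv_hom_id := aff_ext fun j => by
    rw [DiagGL.ev_comp, ev_toAff, ← ev_eq_app, ev_toAff, Equiv.apply_symm_apply, ev_id]

variable (p : ℕ) [hp : Fact p.Prime] [CharP k p]

/-- A product of Witt groups is an affine space. -/
def wpAffIso (r : ℕ) (nn : Fin r → ℕ) : WP p k r nn ≅ Aff k ((j : Fin r) × Fin (nn j)) where
  hom := toAff fun ji => (vec (proj p k r nn ji.1)).coeff ji.2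
  inv := mkP r nn fun j => ofVec (TruncatedWittVector.mk p fun i => gl (k := k) (MvPolynomial.X (⟨j, i⟩ : (j : Fin r) × Fin (nn j))))
  hom_inv_id := WP_ext fun j => eq_of_coeff fun i => by
    rw [Category.assoc, mkP_proj, Category.id_comp, vec_comp, WittGrp.coeff_truncMap, vec_ofVec,
      TruncatedWittVector.coeff_mk, ← ev_eq_app, ev_toAff]
  inv_hom_id := aff_ext fun ji => by
    rw [DiagGL.ev_comp, ev_toAff, ev_id, ← WittGrp.coeff_truncMap, ← vec_comp, mkP_proj, vec_ofVec,
      TruncatedWittVector.coeff_mk]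

end Groth.Agent.UniStr23
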