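import Groth.Agent.Lib.UnipPow23.Torus
import Groth.Agent.Lib.UniStr23.Bridge
import Groth.Agent.Lib.HopfFF23.Range
import Groth.Agent.Lib.UnipExt20.Basic

/-!
# Coordinate algebras of connected commutative unipotent groups

`Good p k A`: a finitely generated domain, cocommutative, killed by a power of `p`.  `exists_bialg`: homomorphisms of affine
groups are bialgebra maps; `exists_good_model`.
-/

set_option autoImplicit false
set_option linter.style.haveILetI false
set_option backward.isDefEq.respectTransparency.types false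
set_option maxSynthPendingDepth 3

universe u

open CategoryTheory AlgebraicGeometry MonObj MonoidalCategory CartesianMonoidalCategory WithConv
open scoped TensorProduct

noncomputable section

namespace Groth.Agent.UniStr23

variable {k : Type u} [Field k]

/-- Functions on a connected commutative unipotent group. -/
structure Good (p : ℕ) (k : Type u) [Field k] (A : Type u) [CommRing A] [HopfAlgebra k A] : Prop where
  dom : IsDomain A
  ft : Algebra.FiniteType k A
  cocomm : Coalgebra.IsCocomm k A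
  kill : ∃ r, UnipPow23.powHom (k := k) (A := A) (p ^ r) = 1

section hom

variable {A B : Type u} [CommRing A] [CommRing B]

theorem pt_injective [Algebra k A] [Algebra k B] {φ ψ : B →ₐ[k] A}
    (h : (CoactBr.pt φ : CoactBr.sp k A ⟶ CoactBr.sp k B) = CoactBr.pt ψ) : φ = ψ :=
  AlgHom.ext fun b => (gl_bijective (k := k) (A := A)).1 (by rw [← ev_pt', ← ev_pt', h])

variable [HopfAlgebra k A] [HopfAlgebra k B]

theorem isMonHom_pt (φ : B →ₐc[k] A) : IsMonHom (CoactBr.pt (φ : B →ₐ[k] A)) :=
  ((hopfSpec (CommRingCat.of k)).map (CommHopfAlgCat.ofHom φ).op).hom.isMonHom_hom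

theorem exists_pt {T : Type u} [CommRing T] [Algebra k T] (g : CoactBr.sp k T ⟶ CoactBr.sp k B) :
    ∃ φ : B →ₐ[k] T, CoactBr.pt φ = g :=
  ⟨((Spec.mapMulEquiv (R := k) (S := B) (T := T)).symm g).ofConv,
    ((Over.OverMorphism.ext rfl : CoactBr.pt _ = Spec.mapMulEquiv (R := k) (S := B) (T := T) _)).trans
      ((Spec.mapMulEquiv (R := k) (S := B) (T := T)).apply_symm_apply g)⟩

/-- Homomorphisms of affine groups are bialgebra maps. -/
theorem exists_bialg (g : CoactBr.sp k A ⟶ CoactBr.sp k B) [IsMonHom g] :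
    ∃ φ : B →ₐc[k] A, CoactBr.pt (φ : B →ₐ[k] A) = g := by
  obtain ⟨φ, hφ⟩ := exists_pt g
  subst hφ
  refine ⟨BialgHom.ofAlgHom φ ?_ ?_, rfl⟩
  · have h := MonObj.one_comp (X := CoactBr.sp k k) (CoactBr.pt φ)
    rw [CoactBr.one_eq_pt, CoactBr.one_eq_pt, ← CoactBr.pt_comp] at h
    exact pt_injective h
  · have h := MonObj.mul_comp (CoactBr.pt (Algebra.TensorProduct.includeLeft : A →ₐ[k] A ⊗[k] A))
      (CoactBr.pt (Algebra.TensorProduct.includeRight : A →ₐ[k] A ⊗[k] A)) (CoactBr.pt φ)
    rw [pt_inl_mul_pt_inr, ← CoactBr.pt_comp, ← CoactBr.pt_comp, ← CoactBr.pt_comp, CoactBr.pt_mul_pt] at h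
    refine (pt_injective h).trans ?_ |>.symm
    congr 1
    exact Algebra.TensorProduct.ext' fun x y => by simp

theorem powHom_comp (φ : A →ₐc[k] B) (n : ℕ) :
    (φ : A →ₐ[k] B).comp (UnipPow23.powHom (k := k) (A := A) n).ofConv =
      (UnipPow23.powHom (k := k) (A := B) n).ofConv.comp (φ : A →ₐ[k] B) := by
  refine toConv_injective ?_
  rw [UnipPow23.powHom, UnipPow23.powHom, UnipPow23.comp_pow, AlgHom.comp_id, UnipPow23.pow_comp, AlgHom.id_comp]

theorem kill_iff (n : ℕ) :
    UnipPow23.powHom (k := k) (A := A) n = 1 ↔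
      ∀ a, (UnipPow23.powHom (k := k) (A := A) n).ofConv a = algebraMap k A (Coalgebra.counit a) :=
  ⟨fun h a => by rw [h]; rfl, fun h => ofConv_injective (AlgHom.ext h)⟩

theorem kill_of_surjective (φ : A →ₐc[k] B) (hφ : Function.Surjective φ) {n : ℕ}
    (h : UnipPow23.powHom (k := k) (A := A) n = 1) : UnipPow23.powHom (k := k) (A := B) n = 1 := by
  refine (kill_iff n).2 fun b => ?_
  obtain ⟨a, rfl⟩ := hφ b
  have e := AlgHom.congr_fun (powHom_comp φ n) a
  simp only [AlgHom.comp_apply, (kill_iff n).1 h a, AlgHom.commutes] at e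
  rw [CoalgHomClass.counit_comp_apply φ a]
  exact e.symm

theorem kill_of_injective (φ : A →ₐc[k] B) (hφ : Function.Injective φ) {n : ℕ}
    (h : UnipPow23.powHom (k := k) (A := B) n = 1) : UnipPow23.powHom (k := k) (A := A) n = 1 := by
  refine (kill_iff n).2 fun a => hφ ?_
  have e := AlgHom.congr_fun (powHom_comp φ n) a
  simp only [AlgHom.comp_apply, (kill_iff n).1 h] at e
  rw [show Coalgebra.counit (R := k) ((φ : A →ₐ[k] B) a) = Coalgebra.counit a from CoalgHomClass.counit_comp_apply φ a] at e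
  exact e.trans ((φ : A →ₐ[k] B).commutes _).symm

theorem cocomm_of_injective (φ : A →ₐc[k] B) (hφ : Function.Injective φ) [Coalgebra.IsCocomm k B] :
    Coalgebra.IsCocomm k A := by
  have hφ2 : Function.Injective (TensorProduct.map (φ : A →ₐ[k] B).toLinearMap (φ : A →ₐ[k] B).toLinearMap) :=
    TensorProduct.map_injective_of_flat_flat _ _ hφ hφ
  refine ⟨LinearMap.ext fun y => hφ2 ?_⟩
  show TensorProduct.map _ _ (TensorProduct.comm k A A (CoalgebraStruct.comul y)) = _
  rw [TensorProduct.map_comm]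
  refine (congrArg _ (CoalgHomClass.map_comp_comul_apply φ y)).trans ?_
  refine Eq.trans ?_ (CoalgHomClass.map_comp_comul_apply φ y).symm
  exact Coalgebra.comm_comul k (φ y)

theorem cocomm_of_surjective (φ : A →ₐc[k] B) (hφ : Function.Surjective φ) [Coalgebra.IsCocomm k A] :
    Coalgebra.IsCocomm k B := by
  refine ⟨LinearMap.ext fun y => ?_⟩
  obtain ⟨a, rfl⟩ := hφ y
  show TensorProduct.comm k B B (CoalgebraStruct.comul (φ a)) = CoalgebraStruct.comul (φ a)
  rw [← CoalgHomClass.map_comp_comul_apply φ a, ← TensorProduct.map_comm, Coalgebra.comm_comul]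

variable {p : ℕ}

theorem Good.of_surjective (hA : Good p k A) (φ : A →ₐc[k] B) (hφ : Function.Surjective φ) [IsDomain B] :
    Good p k B where
  dom := inferInstance
  ft := by haveI := hA.ft; exact Algebra.FiniteType.of_surjective (φ : A →ₐ[k] B) hφ
  cocomm := by haveI := hA.cocomm; exact cocomm_of_surjective φ hφ
  kill := let ⟨r, hr⟩ := hA.kill; ⟨r, kill_of_surjective φ hφ hr⟩

theorem Good.of_injective (hB : Good p k B) (φ : A →ₐc[k] B) (hφ : Function.Injective φ) [Algebra.FiniteType k A] :
    Good p k A where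
  dom := by haveI := hB.dom; exact hφ.isDomain (φ : A →ₐ[k] B).toRingHom
  ft := inferInstance
  cocomm := by haveI := hB.cocomm; exact cocomm_of_injective φ hφ
  kill := let ⟨r, hr⟩ := hB.kill; ⟨r, kill_of_injective φ hφ hr⟩

end hom

section unipotent

variable {p : ℕ} [Fact p.Prime] [CharP k p] [IsAlgClosed k] {A : Type u} [CommRing A] [HopfAlgebra k A]

theorem Good.isUnipotent (hA : Good p k A) : HopfRep.IsUnipotent k A := by
  classical
  haveI := hA.dom
  haveI := hA.ft
  haveI := hA.cocomm
  haveI := UnipPow23.isMulTorsionFree_groupLike (k := k) (A := A)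
  obtain ⟨r, hr⟩ := hA.kill
  have hpow : ∀ (g : GroupLike k A) (n : ℕ), (UnipPow23.powHom (k := k) (A := A) n).ofConv (g : A) = (g : A) ^ n := by
    intro g n
    induction n with
    | zero =>
      show algebraMap k A (Coalgebra.counit (R := k) (g : A)) = _
      rw [g.2.counit_eq_one, map_one, pow_zero]
    | succ n ih =>
      rw [UnipPow23.powHom, pow_succ, AlgHom.convMul_apply, g.2.comul_eq_tmul_self]
      simp only [Algebra.TensorProduct.lift_tmul]
      rw [← UnipPow23.powHom, ih, AlgHom.id_apply, pow_succ]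
  have hg : ∀ g : GroupLike k A, (g : A) - 1 ∈ (⊥ : Ideal A) := fun g => by
    have h := hpow g (p ^ r)
    rw [(kill_iff _).1 hr, g.2.counit_eq_one, map_one] at h
    have h1 : g ^ p ^ r = 1 := GroupLike.ext (by rw [GroupLike.val_pow, GroupLike.val_one]; exact h.symm)
    rw [Ideal.mem_bot, show g = 1 from pow_left_injective (pow_ne_zero r (Fact.out : p.Prime).ne_zero)
      (show g ^ p ^ r = 1 ^ p ^ r by rw [h1, one_pow]), GroupLike.val_one, sub_self]
  let i : A →ₐc[k] A := BialgHom.id k A
  have hbot : RingHom.ker (i : A →ₐ[k] A) = ⊥ := (RingHom.injective_iff_ker_eq_bot _).1 fun a b h => h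
  haveI : (⊥ : Ideal A).IsHopfIdeal k := hbot ▸ HopfFF23.isHopfIdeal_ker i
  refine UnipExt20.isUnipotent_of_injective (Bialgebra.Quotient.mkBialgHom (R := k) (⊥ : Ideal A)) (fun a b h => ?_)
    (Unip23.isUnipotent_kernel (S3308.result k A) ⊥ hg)
  exact sub_eq_zero.1 ((Submodule.mem_bot A).1 (Ideal.Quotient.eq.1 h))

end unipotent

section model

variable {p : ℕ} [Fact p.Prime] [CharP k p] [IsAlgClosed k]

/-- A connected commutative unipotent group is the spectrum of a good Hopf algebra. -/
theorem exists_good_model (G : Over (Spec (CommRingCat.of k))) [GrpObj G] [IsCommMonObj G] [Smooth G.hom]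
    [ConnectedSpace ↥G.left] [IsAffine G.left] (hG : Red.HasNoSubtorus k G) :
    ∃ (A : Type u) (_ : CommRing A) (_ : HopfAlgebra k A), Good p k A ∧
      ∃ e : CoactBr.sp k A ≅ G, IsMonHom e.hom := by
  obtain ⟨A, _, _, ⟨e⟩⟩ := HopfPts19.exists_model G
  let f : CoactBr.sp k A ⟶ G := e.hom.hom.hom
  let g : G ⟶ CoactBr.sp k A := e.inv.hom.hom
  have hfg : g ≫ f = 𝟙 G := congrArg (fun k => k.hom.hom) e.inv_hom_id
  have hgf : f ≫ g = 𝟙 _ := congrArg (fun k => k.hom.hom) e.hom_inv_id
  haveI : IsIso f := ⟨g, hgf, hfg⟩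
  haveI : IsMonHom f := e.hom.hom.isMonHom_hom
  haveI : Coalgebra.IsCocomm k A := Deligne19.isCocomm_of_comm (R := CommRingCat.of k) (CommHopfAlgCat.of k A)
    fun T (x y : T ⟶ CoactBr.sp k A) => (cancel_mono f).1
      ((MonObj.mul_comp x y f).trans ((_root_.mul_comm _ _).trans (MonObj.mul_comp y x f).symm))
  have hX : (CoactBr.sp k A).hom = f.left ≫ G.hom := (Over.w f).symm
  haveI : IsIso f.left := inferInstanceAs (IsIso ((Over.forget _).map f))
  have hsm : Smooth (Spec.map (CommRingCat.ofHom (algebraMap k A))) := by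
    show Smooth (CoactBr.sp k A).hom
    rw [hX]; infer_instance
  haveI : Algebra.Smooth k A := RingHom.smooth_algebraMap.1 ((HasRingHomProperty.Spec_iff (P := @Smooth)).1 hsm)
  haveI : Algebra.FiniteType k A := Algebra.FiniteType.of_finitePresentation
  let hh : PrimeSpectrum A ≃ₜ G.left := Scheme.homeoOfIso (asIso f.left)
  haveI : ConnectedSpace (PrimeSpectrum A) := hh.symm.surjective.connectedSpace hh.symm.continuous
  haveI : Nontrivial A := PrimeSpectrum.nonempty_iff_nontrivial.mp inferInstance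
  haveI : IsDomain A := UnipConst20.isDomain_of_connected (k := k) A fun e he => by
    rcases isClopen_iff.mp (PrimeSpectrum.isClopen_iff.mpr ⟨e, he, rfl⟩) with h | h
    · exact Or.inl (he.eq_zero_of_isNilpotent (PrimeSpectrum.basicOpen_eq_bot_iff e |>.mp (SetLike.coe_injective h)))
    · refine Or.inr ?_
      have hu : IsUnit e := by
        by_contra hne
        obtain ⟨m, hm, hem⟩ := exists_max_ideal_of_mem_nonunits hne
        exact (show (⟨m, hm.isPrime⟩ : PrimeSpectrum A) ∈ (PrimeSpectrum.basicOpen e : Set (PrimeSpectrum A)) from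
          h ▸ Set.mem_univ _) hem
      exact hu.mul_left_cancel (he.trans (_root_.mul_one e).symm)
  have hns : Red.HasNoSubtorus k (CoactBr.sp k A) := fun T _ j _ _ hT => hG T (j ≫ f) hT
  exact ⟨A, inferInstance, inferInstance,
    ⟨inferInstance, inferInstance, inferInstance, UnipPow23.powHom_eq_one_of_noSubtorus p hns⟩, asIso f, ‹IsMonHom f›⟩

end model

end Groth.Agent.UniStr23
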