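import Groth.Agent.Lib.UniStr23.Killed

/-!
# Connected commutative unipotent groups killed by `p`: primitive generators
-/

set_option autoImplicit false
set_option linter.style.haveILetI false
set_option backward.isDefEq.respectTransparency.types false
set_option maxSynthPendingDepth 3

universe u

open scoped TensorProduct

noncomputable section

namespace Groth.Agent.UniStr23

variable {p : ℕ} [hp : Fact p.Prime] {k : Type u} [Field k] [CharP k p]
variable {A : Type u} [CommRing A] [HopfAlgebra k A] [IsAlgClosed k] [IsDomain A] [Coalgebra.IsCocomm k A]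

/-- A unipotent group killed by `p` has coordinates generated by primitive elements. -/
theorem adjoin_prim_eq_top (hU : HopfRep.IsUnipotent k A) (hkill : UnipPow23.powHom (k := k) (A := A) p = 1) :
    Algebra.adjoin k {x : A | Unip23.IsPrim (k := k) x} = ⊤ := by
  classical
  set B := Algebra.adjoin k {x : A | Unip23.IsPrim (k := k) x} with hB
  have key : ∀ r, CoalgH23.fixFil k A A (r + 1) ≤ Subalgebra.toSubmodule B := by
    intro r
    induction r with
    | zero =>
      rw [CoalgH23.fixFil_one_eq, Submodule.span_singleton_le_iff_mem]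
      exact one_mem B
    | succ r ih =>
      intro x hx
      -- the reduced coproduct lies in `B ⊗ B`
      have hmem := CoalgH23.map_comul_fixFil_le (r + 1) ⟨x, hx, rfl⟩
      have hle : ∀ i ∈ Finset.range (r + 2),
          LinearMap.range (TensorProduct.mapIncl (CoalgH23.fixFil k A A (i + 1)) (CoalgH23.fixFil k A A (r + 1 - i + 1))) ≤
            LinearMap.range (TensorProduct.mapIncl (Submodule.span k {(1 : A)}) (⊤ : Submodule k A)) ⊔
            (LinearMap.range (TensorProduct.mapIncl (⊤ : Submodule k A) (Submodule.span k {(1 : A)})) ⊔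
            LinearMap.range (TensorProduct.mapIncl (Subalgebra.toSubmodule B) (Subalgebra.toSubmodule B))) := by
        intro i hi
        rw [TensorProduct.range_mapIncl]
        refine Submodule.map₂_le.2 fun y hy y' hy' => ?_
        rw [Finset.mem_range] at hi
        rcases Nat.eq_zero_or_pos i with rfl | hpos
        · rw [CoalgH23.fixFil_one_eq] at hy
          exact Submodule.mem_sup_left ⟨(⟨y, hy⟩ : Submodule.span k {(1 : A)}) ⊗ₜ (⟨y', trivial⟩ : (⊤ : Submodule k A)), rfl⟩
        rcases Nat.lt_or_ge i (r + 1) with hlt | hge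
        · refine Submodule.mem_sup_right (Submodule.mem_sup_right ⟨(⟨y, ?_⟩ : Subalgebra.toSubmodule B) ⊗ₜ
            (⟨y', ?_⟩ : Subalgebra.toSubmodule B), rfl⟩)
          · exact ih (CoalgH23.fixFil_mono (by omega) hy)
          · exact ih (CoalgH23.fixFil_mono (by omega) hy')
        · rw [show r + 1 - i + 1 = 1 by omega, CoalgH23.fixFil_one_eq] at hy'
          exact Submodule.mem_sup_right (Submodule.mem_sup_left
            ⟨(⟨y, trivial⟩ : (⊤ : Submodule k A)) ⊗ₜ (⟨y', hy'⟩ : Submodule.span k {(1 : A)}), rfl⟩)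
      obtain ⟨t1, ⟨w1, hw1⟩, t23, h23, hsum⟩ := Submodule.mem_sup.1 (iSup₂_le hle hmem)
      obtain ⟨t2, ⟨w2, hw2⟩, t3, ⟨w3, hw3⟩, hsum'⟩ := Submodule.mem_sup.1 h23
      obtain ⟨a, ha⟩ : ∃ a : A, t1 = (1 : A) ⊗ₜ[k] a := by
        rw [← hw1]
        clear hw1
        induction w1 with
        | zero => exact ⟨0, by simp⟩
        | add u v hu hv =>
          obtain ⟨a, ha⟩ := hu; obtain ⟨b, hb⟩ := hv
          exact ⟨a + b, by rw [map_add, ha, hb, TensorProduct.tmul_add]⟩
        | tmul u v =>
          obtain ⟨c, hc⟩ := Submodule.mem_span_singleton.1 u.2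
          exact ⟨c • v.1, by
            show (u : A) ⊗ₜ[k] (v : A) = _
            rw [← hc, TensorProduct.smul_tmul]⟩
      obtain ⟨b, hb⟩ : ∃ b : A, t2 = b ⊗ₜ[k] (1 : A) := by
        rw [← hw2]
        clear hw2
        induction w2 with
        | zero => exact ⟨0, by simp⟩
        | add u v hu hv =>
          obtain ⟨a, ha⟩ := hu; obtain ⟨b, hb⟩ := hv
          exact ⟨a + b, by rw [map_add, ha, hb, TensorProduct.add_tmul]⟩
        | tmul u v =>
          obtain ⟨c, hc⟩ := Submodule.mem_span_singleton.1 v.2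
          exact ⟨c • u.1, by
            show (u : A) ⊗ₜ[k] (v : A) = _
            rw [← hc, TensorProduct.tmul_smul, TensorProduct.smul_tmul']⟩
      let BB := LinearMap.range (TensorProduct.mapIncl (Subalgebra.toSubmodule B) (Subalgebra.toSubmodule B))
      have hBB : ∀ {u v : A}, u ∈ B → v ∈ B → u ⊗ₜ[k] v ∈ BB := fun hu hv =>
        ⟨(⟨_, hu⟩ : Subalgebra.toSubmodule B) ⊗ₜ (⟨_, hv⟩ : Subalgebra.toSubmodule B), rfl⟩
      have ht3 : t3 ∈ BB := ⟨w3, hw3⟩
      let εr : A ⊗[k] A →ₗ[k] A := (TensorProduct.rid k A).toLinearMap ∘ₗ (CoalgebraStruct.counit (R := k)).lTensor A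
      let εl : A ⊗[k] A →ₗ[k] A := (TensorProduct.lid k A).toLinearMap ∘ₗ (CoalgebraStruct.counit (R := k)).rTensor A
      have hεB : ∀ t ∈ BB, εr t ∈ B ∧ εl t ∈ B := by
        rintro _ ⟨w, rfl⟩
        induction w with
        | zero => simp [B.zero_mem]
        | add u v hu hv => simp only [map_add]; exact ⟨B.add_mem hu.1 hv.1, B.add_mem hu.2 hv.2⟩
        | tmul u v => exact ⟨B.smul_mem u.2 _, B.smul_mem v.2 _⟩
      have hΔ : CoalgebraStruct.comul (R := k) x = (1 : A) ⊗ₜ[k] a + (b ⊗ₜ[k] (1 : A) + t3) := by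
        rw [← ha, ← hb, hsum', hsum]
      have hxb : x - b ∈ B := by
        have h1 := congrArg εr hΔ
        rw [show εr (CoalgebraStruct.comul (R := k) x) = x by
          show TensorProduct.rid k A ((CoalgebraStruct.counit (R := k)).lTensor A (CoalgebraStruct.comul (R := k) x)) = x
          rw [Coalgebra.lTensor_counit_comul, TensorProduct.rid_tmul, one_smul]] at h1
        have e2 : x - b = CoalgebraStruct.counit (R := k) a • (1 : A) + εr t3 := by
          rw [map_add, map_add] at h1
          conv_lhs => rw [h1]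
          simp [εr]
          all_goals abel
        rw [e2]
        exact B.add_mem (B.smul_mem B.one_mem _) (hεB t3 ht3).1
      have hxa : x - a ∈ B := by
        have h1 := congrArg εl hΔ
        rw [show εl (CoalgebraStruct.comul (R := k) x) = x by
          show TensorProduct.lid k A ((CoalgebraStruct.counit (R := k)).rTensor A (CoalgebraStruct.comul (R := k) x)) = x
          rw [Coalgebra.rTensor_counit_comul, TensorProduct.lid_tmul, one_smul]] at h1
        have e2 : x - a = CoalgebraStruct.counit (R := k) b • (1 : A) + εl t3 := by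
          rw [map_add, map_add] at h1
          conv_lhs => rw [h1]
          simp [εl]
          all_goals abel
        rw [e2]
        exact B.add_mem (B.smul_mem B.one_mem _) (hεB t3 ht3).2
      have hdev : x ⊗ₜ[k] (1 : A) + (1 : A) ⊗ₜ[k] x - CoalgebraStruct.comul (R := k) x ∈ BB := by
        have e : x ⊗ₜ[k] (1 : A) + (1 : A) ⊗ₜ[k] x - CoalgebraStruct.comul (R := k) x =
            (x - b) ⊗ₜ[k] (1 : A) + (1 : A) ⊗ₜ[k] (x - a) - t3 := by
          rw [hΔ, TensorProduct.sub_tmul, TensorProduct.tmul_sub]; abel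
        rw [e]
        exact BB.sub_mem (BB.add_mem (hBB hxb B.one_mem) (hBB B.one_mem hxa)) ht3
      obtain ⟨t, ht, htw⟩ : ∃ t : Finset A, (∀ y ∈ t, Unip23.IsPrim (k := k) y) ∧
          x ⊗ₜ[k] (1 : A) + (1 : A) ⊗ₜ[k] x - CoalgebraStruct.comul (R := k) x ∈
            LinearMap.range (TensorProduct.mapIncl (Subalgebra.toSubmodule (Algebra.adjoin k (t : Set A)))
              (Subalgebra.toSubmodule (Algebra.adjoin k (t : Set A)))) := by
        generalize x ⊗ₜ[k] (1 : A) + (1 : A) ⊗ₜ[k] x - CoalgebraStruct.comul (R := k) x = d at hdev ⊢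
        obtain ⟨w, rfl⟩ := hdev
        have hmono : ∀ {t t' : Finset A}, t ⊆ t' → ∀ {d : A ⊗[k] A},
            d ∈ LinearMap.range (TensorProduct.mapIncl (Subalgebra.toSubmodule (Algebra.adjoin k (t : Set A)))
              (Subalgebra.toSubmodule (Algebra.adjoin k (t : Set A)))) →
            d ∈ LinearMap.range (TensorProduct.mapIncl (Subalgebra.toSubmodule (Algebra.adjoin k (t' : Set A)))
              (Subalgebra.toSubmodule (Algebra.adjoin k (t' : Set A)))) := fun h _ hd =>
          TensorProduct.range_mapIncl_mono (Algebra.adjoin_mono (Finset.coe_subset.2 h))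
            (Algebra.adjoin_mono (Finset.coe_subset.2 h)) hd
        induction w with
        | zero => exact ⟨∅, by simp, by rw [map_zero]; exact zero_mem _⟩
        | add u v hu hv =>
          obtain ⟨t, ht, hu⟩ := hu; obtain ⟨t', ht', hv⟩ := hv
          exact ⟨t ∪ t', fun z hz => (Finset.mem_union.1 hz).elim (ht z) (ht' z), by
            rw [map_add]; exact add_mem (hmono Finset.subset_union_left hu) (hmono Finset.subset_union_right hv)⟩
        | tmul u v =>
          obtain ⟨t, ht, hu⟩ := adjoin_prim_finset u.2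
          obtain ⟨t', ht', hv⟩ := adjoin_prim_finset v.2
          exact ⟨t ∪ t', fun z hz => (Finset.mem_union.1 hz).elim (ht z) (ht' z),
            ⟨(⟨u, Algebra.adjoin_mono (Finset.coe_subset.2 Finset.subset_union_left) hu⟩ :
              Subalgebra.toSubmodule (Algebra.adjoin k ((t ∪ t' : Finset A) : Set A))) ⊗ₜ
              ⟨v, Algebra.adjoin_mono (Finset.coe_subset.2 Finset.subset_union_right) hv⟩, rfl⟩⟩
      obtain ⟨n, z, hz, hindep, hgen⟩ := exists_indep p (fun i => (t.equivFin.symm i : A)) fun i => ht _ (t.equivFin.symm i).2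
      have hrange : Set.range (fun i => (t.equivFin.symm i : A)) = (t : Set A) := by
        ext y
        exact ⟨fun ⟨i, hi⟩ => hi ▸ (t.equivFin.symm i).2, fun hy => ⟨t.equivFin ⟨y, hy⟩, by simp⟩⟩
      rw [hrange] at hgen
      obtain ⟨B', _, _, _, φ, hφ, hr⟩ := HopfPts19.exists_hopf_fg (isSub_adjoin_prim (k := k) (s := (t : Set A)) ht)
        ⟨t, rfl⟩
      choose z' hz' using fun i => (show z i ∈ (φ : B' →ₐ[k] A).range by
        rw [hr, ← hgen]; exact Algebra.subset_adjoin ⟨i, rfl⟩)
      have hφ2 : Function.Injective (TensorProduct.map (φ : B' →ₐ[k] A).toLinearMap (φ : B' →ₐ[k] A).toLinearMap) :=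
        TensorProduct.map_injective_of_flat_flat _ _ hφ hφ
      have hcomm : Coalgebra.IsCocomm k B' := ⟨LinearMap.ext fun y => hφ2 (by
        show TensorProduct.map _ _ (TensorProduct.comm k B' B' (CoalgebraStruct.comul y)) = _
        rw [TensorProduct.map_comm]
        refine (congrArg _ (CoalgHomClass.map_comp_comul_apply φ y)).trans ?_
        refine Eq.trans ?_ (CoalgHomClass.map_comp_comul_apply φ y).symm
        exact Coalgebra.comm_comul k (φ y))⟩
      have hz'prim : ∀ i, Unip23.IsPrim (k := k) (z' i) := fun i => hφ2 (by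
        refine (CoalgHomClass.map_comp_comul_apply φ (z' i)).trans ?_
        rw [show φ (z' i) = z i from hz' i, show CoalgebraStruct.comul (R := k) (z i) = _ from hz i, map_add]
        simp [show φ (z' i) = z i from hz' i])
      have hind' : AlgebraicIndependent k z' :=
        AlgebraicIndependent.of_comp (φ : B' →ₐ[k] A) (by
          rwa [show (φ : B' →ₐ[k] A) ∘ z' = z from funext hz'])
      have hgen' : Algebra.adjoin k (Set.range z') = ⊤ := by
        refine Subalgebra.map_injective (f := (φ : B' →ₐ[k] A)) hφ ?_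
        rw [AlgHom.map_adjoin, Algebra.map_top, hr, ← hgen, ← Set.range_comp,
          show (φ : B' →ₐ[k] A) ∘ z' = z from funext hz']
      obtain ⟨w, hw⟩ : ∃ w : B' ⊗[k] B', Algebra.TensorProduct.map (φ : B' →ₐ[k] A) (φ : B' →ₐ[k] A) w =
          x ⊗ₜ[k] 1 + 1 ⊗ₜ[k] x - CoalgebraStruct.comul (R := k) x := by
        obtain ⟨w, hw⟩ := htw
        rw [← hw]
        clear hw
        induction w with
        | zero => exact ⟨0, by simp⟩
        | add u v hu hv =>
          obtain ⟨w, hw⟩ := hu; obtain ⟨w', hw'⟩ := hv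
          exact ⟨w + w', by rw [map_add, map_add, hw, hw']⟩
        | tmul u v =>
          have hu : (u : A) ∈ (φ : B' →ₐ[k] A).range := hr.ge u.2
          have hv : (v : A) ∈ (φ : B' →ₐ[k] A).range := hr.ge v.2
          obtain ⟨u', hu'⟩ := hu; obtain ⟨v', hv'⟩ := hv
          exact ⟨u' ⊗ₜ v', by
            rw [Algebra.TensorProduct.map_tmul]
            exact congrArg₂ (· ⊗ₜ[k] ·) hu' hv'⟩
      obtain ⟨a₀, ha₀, hxa₀⟩ := mem_of_dev hkill φ hφ z' hz'prim hind' hgen' x w hw
      have h1 : x - a₀ ∈ B := Algebra.adjoin_mono (fun y hy => ht y hy) (hr.le hxa₀)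
      have h2 : a₀ ∈ B := Algebra.subset_adjoin ha₀
      simpa using B.add_mem h1 h2
  refine top_le_iff.1 fun x _ => ?_
  obtain ⟨n, hn⟩ := Unip23.exists_mem_fixFil hU x
  exact key n (CoalgH23.fixFil_mono (Nat.le_succ n) hn)

/-- A connected commutative unipotent group killed by `p` is a vector group. -/
theorem exists_vec [Algebra.FiniteType k A] (hU : HopfRep.IsUnipotent k A)
    (hkill : UnipPow23.powHom (k := k) (A := A) p = 1) :
    ∃ (n : ℕ) (z : Fin n → A), (∀ i, Unip23.IsPrim (k := k) (z i)) ∧ AlgebraicIndependent k z ∧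
      Algebra.adjoin k (Set.range z) = ⊤ := by
  classical
  obtain ⟨s, hs⟩ := Algebra.FiniteType.out (R := k) (A := A)
  choose t ht hat using fun a : A => adjoin_prim_finset (k := k) (a := a)
    (adjoin_prim_eq_top hU hkill ▸ Algebra.mem_top)
  let U := s.biUnion t
  have hU' : ∀ y ∈ U, Unip23.IsPrim (k := k) y := fun y hy => by
    obtain ⟨a, -, ha⟩ := Finset.mem_biUnion.1 hy
    exact ht a y ha
  obtain ⟨n, z, hz, hind, hgen⟩ := exists_indep p (fun i => (U.equivFin.symm i : A)) fun i => hU' _ (U.equivFin.symm i).2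
  refine ⟨n, z, hz, hind, hgen.trans (top_le_iff.1 (hs.ge.trans (Algebra.adjoin_le fun a ha => ?_)))⟩
  refine Algebra.adjoin_mono ?_ (hat a)
  exact fun y hy => ⟨U.equivFin ⟨y, Finset.mem_biUnion.2 ⟨a, ha, hy⟩⟩, by simp⟩

end Groth.Agent.UniStr23
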