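import Groth.Agent.Lib.UniStr23.Good
import Groth.Agent.Lib.UniStr23.Killed2
import Groth.Agent.Lib.NormQuot20.Apps

/-!
# Every non-trivial connected commutative unipotent group is an extension by the additive group

`isKernel_pt`: kernels of homomorphisms of affine groups; `flat_surjective_pt`; `exists_ext`.
-/

set_option autoImplicit false
set_option linter.style.haveILetI false
set_option backward.isDefEq.respectTransparency.types false
set_option maxSynthPendingDepth 3

universe u

open CategoryTheory Limits AlgebraicGeometry MonObj MonoidalCategory CartesianMonoidalCategory WithConv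
open Groth.Agent.WittHom23 Groth.Agent.WittExt23
open scoped TensorProduct

noncomputable section

namespace Groth.Agent.UniStr23

variable {k : Type u} [Field k] {A B C : Type u} [CommRing A] [CommRing B] [CommRing C] [HopfAlgebra k A]
  [HopfAlgebra k B] [HopfAlgebra k C]

/-- A point killed by a homomorphism kills the image of the augmentation ideal. -/
theorem ev_eq_of_comp_eq_one (φ : B →ₐc[k] A) {T : Over (Spec (CommRingCat.of k))} (x : T ⟶ CoactBr.sp k A)
    (hx : x ≫ CoactBr.pt (φ : B →ₐ[k] A) = 1) (b : B) :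
    DiagGL.ev x (φ b) = DiagGL.alg T (Coalgebra.counit b) := by
  have h := congrArg (fun z => DiagGL.ev z b) hx
  rw [← MonObj.comp_one x] at h
  simp only [DiagGL.ev_comp, ev_pt', ← ev_eq_app, CoactBr.one_eq_pt] at h
  exact h.trans (DiagGL.ev_algebraMap x _)

/-- The kernel of a homomorphism of affine groups. -/
theorem isKernel_pt (φ : B →ₐc[k] A) (π : A →ₐc[k] C) (hπ : Function.Surjective π)
    (hC : RingHom.ker (π : A →ₐ[k] C) = Ideal.span ((φ : B → A) '' {b | Coalgebra.counit (R := k) b = 0})) :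
    AlgGrp.IsKernel (CoactBr.pt (π : A →ₐ[k] C)) (CoactBr.pt (φ : B →ₐ[k] A)) := by
  haveI := isMonHom_pt φ
  have hmono : ∀ {T : Over (Spec (CommRingCat.of k))} {a b : T ⟶ CoactBr.sp k C},
      a ≫ CoactBr.pt (π : A →ₐ[k] C) = b ≫ CoactBr.pt (π : A →ₐ[k] C) → a = b := fun {T a b} h =>
    DiagGL.ev_injective fun c => by
      obtain ⟨x, rfl⟩ := hπ c
      have h1 := congrArg (fun z => DiagGL.ev z x) h
      simp only [DiagGL.ev_comp, ev_pt', ← ev_eq_app] at h1
      exact h1
  have hone : ∀ (T : Over (Spec (CommRingCat.of k))),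
      toUnit T ≫ η[CoactBr.sp k B] = 1 := fun T => by rw [MonObj.one_eq_one, MonObj.comp_one]
  refine IsPullback.of_isLimit' ⟨?_⟩ (PullbackCone.IsLimit.mk _ (fun s => ?_) (fun s => ?_) (fun s => ?_) fun s m h1 h2 => ?_)
  · rw [hone, ← CoactBr.pt_comp, CoactBr.one_eq_pt]
    congr 1
    refine AlgHom.ext fun b => ?_
    show π (φ b) = algebraMap k C (Coalgebra.counit b)
    have h : φ (b - algebraMap k B (Coalgebra.counit b)) ∈ RingHom.ker (π : A →ₐ[k] C) := by
      rw [hC]; exact Ideal.subset_span ⟨_, by simp, rfl⟩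
    rw [RingHom.mem_ker, map_sub, map_sub, sub_eq_zero, AlgHomClass.commutes φ, AlgHomClass.commutes] at h
    exact h
  · have hker : RingHom.ker (π : A →ₐ[k] C).toRingHom ≤ RingHom.ker (DiagGL.ev s.fst) := by
      refine (le_of_eq hC).trans (Ideal.span_le.2 ?_)
      rintro _ ⟨b, hb, rfl⟩
      show DiagGL.ev s.fst (φ b) = 0
      rw [ev_eq_of_comp_eq_one φ s.fst ((s.condition.trans (by rw [toUnit_unique s.snd (toUnit _)])).trans (hone _)), show Coalgebra.counit (R := k) b = 0 from hb,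
        map_zero]
    exact DiagGL.mk (RingHom.liftOfSurjective (π : A →ₐ[k] C).toRingHom hπ ⟨DiagGL.ev s.fst, hker⟩) fun r => by
      rw [← AlgHom.commutes (π : A →ₐ[k] C) r]
      exact (RingHom.liftOfRightInverse_comp_apply _ _ _ _ _).trans (DiagGL.ev_algebraMap _ r)
  · refine DiagGL.ev_injective fun a => ?_
    rw [DiagGL.ev_comp, ev_pt', ← ev_eq_app, DiagGL.ev_mk]
    exact RingHom.liftOfRightInverse_comp_apply _ _ _ _ _
  · exact toUnit_unique _ _
  · refine hmono (h1.trans (DiagGL.ev_injective fun a => ?_).symm)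
    rw [DiagGL.ev_comp, ev_pt', ← ev_eq_app, DiagGL.ev_mk]
    exact RingHom.liftOfRightInverse_comp_apply _ _ _ _ _

/-- Injective bialgebra maps give flat surjective homomorphisms. -/
theorem flat_surjective_pt [Algebra.FiniteType k A] [Algebra.FiniteType k B] (φ : B →ₐc[k] A)
    (hφ : Function.Injective φ) :
    Flat (CoactBr.pt (φ : B →ₐ[k] A)).left ∧ Surjective (CoactBr.pt (φ : B →ₐ[k] A)).left := by
  have h := HopfFlat.faithfullyFlat_of_injective φ hφ
  exact (flat_and_surjective_SpecMap_iff (CommRingCat.ofHom (φ : B →ₐ[k] A).toRingHom)).2 h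

theorem powHom_powHom (a b : ℕ) :
    (UnipPow23.powHom (k := k) (A := A) a).ofConv.comp (UnipPow23.powHom (k := k) (A := A) b).ofConv =
      (UnipPow23.powHom (k := k) (A := A) (a * b)).ofConv := by
  refine toConv_injective ?_
  rw [UnipPow23.powHom, UnipPow23.powHom, UnipPow23.powHom, UnipPow23.comp_pow, AlgHom.comp_id, toConv_ofConv, ← pow_mul]

variable {p : ℕ} [hp : Fact p.Prime] [CharP k p] [IsAlgClosed k]

/-- A non-trivial good group is an extension of a good group by the additive group. -/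
theorem exists_ext (hA : Good p k A) (hne : UnipPow23.powHom (k := k) (A := A) 1 ≠ 1) :
    ∃ (B : Type u) (_ : CommRing B) (_ : HopfAlgebra k B), Good p k B ∧
      ∃ (φ : B →ₐc[k] A) (i : Wk p k 1 ⟶ CoactBr.sp k A), Function.Injective φ ∧ IsMonHom i ∧
        AlgGrp.IsKernel i (CoactBr.pt (φ : B →ₐ[k] A)) := by
  classical
  haveI := hA.dom
  haveI := hA.ft
  haveI := hA.cocomm
  obtain ⟨m, hm, hmin⟩ : ∃ m, UnipPow23.powHom (k := k) (A := A) (p ^ (m + 1)) = 1 ∧
      UnipPow23.powHom (k := k) (A := A) (p ^ m) ≠ 1 := by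
    have h0 : Nat.find hA.kill ≠ 0 := fun h => hne (by
      have := Nat.find_spec hA.kill
      rwa [h, pow_zero] at this)
    obtain ⟨m, hm⟩ := Nat.exists_eq_succ_of_ne_zero h0
    refine ⟨m, ?_, Nat.find_min hA.kill (by omega)⟩
    have h1 := Nat.find_spec hA.kill
    rwa [hm] at h1
  -- the part killed by `p`
  let ψ : A →ₐc[k] A := UnipPow23.powBialg (p ^ m)
  let I := RingHom.ker (ψ : A →ₐ[k] A)
  haveI : I.IsHopfIdeal k := HopfFF23.isHopfIdeal_ker ψ
  haveI : I.IsPrime := RingHom.ker_isPrime _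
  let q : A →ₐc[k] A ⧸ I := Bialgebra.Quotient.mkBialgHom (R := k) I
  have hq : Function.Surjective q := Ideal.Quotient.mk_surjective
  have hH : Good p k (A ⧸ I) := hA.of_surjective q hq
  haveI := hH.cocomm
  haveI := hH.ft
  have hkill : UnipPow23.powHom (k := k) (A := A ⧸ I) p = 1 := (kill_iff p).2 fun y => by
    obtain ⟨a, rfl⟩ := hq y
    have e := AlgHom.congr_fun (powHom_comp q p) a
    simp only [AlgHom.comp_apply] at e
    refine e.symm.trans ?_
    rw [CoalgHomClass.counit_comp_apply q a, ← AlgHomClass.commutes q]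
    refine Ideal.Quotient.eq.2 ?_
    show (ψ : A →ₐ[k] A) _ = 0
    rw [map_sub, sub_eq_zero, AlgHom.commutes]
    show (UnipPow23.powHom (k := k) (A := A) (p ^ m)).ofConv ((UnipPow23.powHom (k := k) (A := A) p).ofConv a) = _
    rw [← AlgHom.comp_apply, powHom_powHom, ← pow_succ, hm]
    rfl
  obtain ⟨n, z, hz, hind, hgen⟩ := exists_vec hH.isUnipotent hkill
  obtain ⟨n, rfl⟩ : ∃ n', n = n' + 1 := ⟨n - 1, by
    by_contra hn
    obtain rfl : n = 0 := by omega
    refine hmin ((kill_iff _).2 fun a => ?_)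
    have hbot : q a ∈ (⊥ : Subalgebra k (A ⧸ I)) := by
      rw [← Algebra.adjoin_empty k, ← Set.range_eq_empty z, hgen]; exact Algebra.mem_top
    obtain ⟨c, hc⟩ := Algebra.mem_bot.1 hbot
    have hc' : a - algebraMap k A c ∈ I := Ideal.Quotient.eq.1 (show q a = q (algebraMap k A c) by
      rw [AlgHomClass.commutes]; exact hc.symm)
    have hψ : (UnipPow23.powHom (k := k) (A := A) (p ^ m)).ofConv a = algebraMap k A c := by
      have : (ψ : A →ₐ[k] A) (a - algebraMap k A c) = 0 := hc'
      rwa [map_sub, AlgHom.commutes, sub_eq_zero] at this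
    rw [hψ]
    congr 1
    have h2 := congrArg (Coalgebra.counit (R := k)) hψ
    rw [Bialgebra.counit_algebraMap, show Coalgebra.counit (R := k) ((UnipPow23.powHom (k := k) (A := A) (p ^ m)).ofConv a) =
      Coalgebra.counit a from AlgHom.congr_fun (UnipPow23.counit_powHom _) a] at h2
    exact h2.symm⟩
  -- the first coordinate
  obtain ⟨C, _, _, _, j, hj, hjr⟩ := HopfPts19.exists_hopf_fg
    (isSub_adjoin_prim (k := k) (s := ({z 0} : Set (A ⧸ I))) (by simpa using hz 0)) ⟨{z 0}, by simp⟩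
  obtain ⟨z₀, hz₀⟩ : z 0 ∈ (j : C →ₐ[k] A ⧸ I).range := hjr ▸ Algebra.subset_adjoin rfl
  have hj2 : Function.Injective (TensorProduct.map (j : C →ₐ[k] A ⧸ I).toLinearMap (j : C →ₐ[k] A ⧸ I).toLinearMap) :=
    TensorProduct.map_injective_of_flat_flat _ _ hj hj
  have hz₀prim : Unip23.IsPrim (k := k) z₀ := hj2 (by
    refine (CoalgHomClass.map_comp_comul_apply j z₀).trans ?_
    rw [show j z₀ = z 0 from hz₀, show CoalgebraStruct.comul (R := k) (z 0) = _ from hz 0, map_add]
    simp [show j z₀ = z 0 from hz₀])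
  have hind₀ : AlgebraicIndependent k (fun _ : Fin 1 => z₀) :=
    AlgebraicIndependent.of_comp (j : C →ₐ[k] A ⧸ I) (by
      rw [show (j : C →ₐ[k] A ⧸ I) ∘ (fun _ : Fin 1 => z₀) = z ∘ (fun _ => 0) from funext fun _ => hz₀]
      exact hind.comp _ fun a b _ => Subsingleton.elim a b)
  have hgen₀ : Algebra.adjoin k (Set.range fun _ : Fin 1 => z₀) = ⊤ := by
    refine Subalgebra.map_injective (f := (j : C →ₐ[k] A ⧸ I)) hj ?_
    rw [AlgHom.map_adjoin, Algebra.map_top, hjr, Set.range_const, Set.image_singleton]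
    exact congrArg (fun y => Algebra.adjoin k ({y} : Set (A ⧸ I))) hz₀
  let e : MvPolynomial (Fin (n + 1)) k ≃ₐ[k] A ⧸ I := AlgEquiv.ofBijective (MvPolynomial.aeval z)
    ⟨hind, fun a => by
      have h : a ∈ (MvPolynomial.aeval z : MvPolynomial (Fin (n + 1)) k →ₐ[k] A ⧸ I).range := by
        rw [← Algebra.adjoin_range_eq_range_aeval, hgen]; trivial
      exact h⟩
  let r₀ : A ⧸ I →ₐ[k] C := (MvPolynomial.aeval fun i => if i = 0 then z₀ else 0).comp e.symm.toAlgHom
  have hr₀ : ∀ i, r₀ (z i) = if i = 0 then z₀ else 0 := fun i => by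
    show MvPolynomial.aeval _ (e.symm (z i)) = _
    rw [show e.symm (z i) = MvPolynomial.X i from e.injective (by
      rw [e.apply_symm_apply]; exact (MvPolynomial.aeval_X z i).symm), MvPolynomial.aeval_X]
  have hr₀c : (Bialgebra.counitAlgHom k C).comp r₀ = Bialgebra.counitAlgHom k (A ⧸ I) :=
    AlgHom.ext_of_adjoin_eq_top hgen fun _ ⟨i, hi⟩ => by
      subst hi
      show Coalgebra.counit (R := k) (r₀ (z i)) = Coalgebra.counit (z i)
      rw [hr₀, Unip23.counit_of_isPrim (hz i)]
      split_ifs with h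
      · exact Unip23.counit_of_isPrim hz₀prim
      · exact map_zero _
  have hr₀Δ : (Algebra.TensorProduct.map r₀ r₀).comp (Bialgebra.comulAlgHom k (A ⧸ I)) =
      (Bialgebra.comulAlgHom k C).comp r₀ :=
    AlgHom.ext_of_adjoin_eq_top hgen fun _ ⟨i, hi⟩ => by
      subst hi
      show Algebra.TensorProduct.map r₀ r₀ (CoalgebraStruct.comul (R := k) (z i)) =
        CoalgebraStruct.comul (R := k) (r₀ (z i))
      rw [show CoalgebraStruct.comul (R := k) (z i) = _ from hz i, map_add, Algebra.TensorProduct.map_tmul,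
        Algebra.TensorProduct.map_tmul, map_one, hr₀]
      split_ifs with h
      · exact (show CoalgebraStruct.comul (R := k) z₀ = _ from hz₀prim).symm
      · simp
  let π0 : A →ₐc[k] C := (BialgHom.ofAlgHom r₀ hr₀c hr₀Δ).comp q
  have hπ0 : Function.Surjective π0 := by
    intro c
    have hc : c ∈ (π0 : A →ₐ[k] C).range := by
      have hle : Algebra.adjoin k (Set.range fun _ : Fin 1 => z₀) ≤ (π0 : A →ₐ[k] C).range := Algebra.adjoin_le (by
        rintro _ ⟨_, rfl⟩
        obtain ⟨a, ha⟩ := hq (z 0)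
        exact ⟨a, by show r₀ (q a) = z₀; rw [ha, hr₀, if_pos rfl]⟩)
      exact hle (hgen₀ ▸ Algebra.mem_top)
    exact hc
  -- the quotient
  have hN : NormQuot.IsNormal π0 := fun x hx => by
    show (toConv (Algebra.TensorProduct.includeLeft : A →ₐ[k] A ⊗[k] C) *
      toConv (Algebra.TensorProduct.includeRight.comp (π0 : A →ₐ[k] C)) *
      (toConv (Algebra.TensorProduct.includeLeft : A →ₐ[k] A ⊗[k] C))⁻¹).ofConv x = 0
    rw [mul_inv_cancel_comm]
    show (1 : A) ⊗ₜ[k] π0 x = 0
    rw [hx, TensorProduct.tmul_zero]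
  haveI : IsNoetherianRing A := Algebra.FiniteType.isNoetherianRing k A
  have hfgJ : (Submodule.span A {b : A | b ∈ NormQuot.coinv π0 ∧ Coalgebra.counit (R := k) b = 0}).FG :=
    IsNoetherian.noetherian _
  obtain ⟨s, hs, hspan⟩ := (Submodule.fg_span_iff_fg_span_finset_subset _).1 hfgJ
  obtain ⟨T, hT, hTfg, hTle, hsT⟩ := HopfPts19.IsSub.exists_fg_le (B := NormQuot.coinv π0)
    ⟨(hN.isSub_coinv hπ0).comul_mem, (hN.isSub_coinv hπ0).antipode_mem⟩ s fun x hx => (hs hx).1
  obtain ⟨B, _, _, hBft, φ, hφ, hφr⟩ := HopfPts19.exists_hopf_fg hT hTfg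
  have hker : RingHom.ker (π0 : A →ₐ[k] C) = Ideal.span ((φ : B → A) '' {b | Coalgebra.counit (R := k) b = 0}) := by
    refine (hN.ker_eq_augJ hπ0).trans (le_antisymm ?_ (Ideal.span_le.2 ?_))
    · show Submodule.span A {b : A | b ∈ NormQuot.coinv π0 ∧ Coalgebra.counit (R := k) b = 0} ≤ _
      rw [hspan]
      refine Submodule.span_le.2 fun x hx => Ideal.subset_span ?_
      obtain ⟨b, hb⟩ : x ∈ (φ : B →ₐ[k] A).range := hφr ▸ hsT hx
      refine ⟨b, ?_, hb⟩
      show Coalgebra.counit (R := k) b = 0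
      rw [← CoalgHomClass.counit_comp_apply φ b, show φ b = x from hb]
      exact (hs hx).2
    · rintro _ ⟨b, hb, rfl⟩
      refine Ideal.subset_span ⟨hTle (hφr ▸ ⟨b, rfl⟩), ?_⟩
      rw [CoalgHomClass.counit_comp_apply φ b]
      exact hb
  refine ⟨B, inferInstance, inferInstance, hA.of_injective φ hφ, ?_⟩
  let w : CoactBr.sp k C ⟶ Wk p k 1 := wpt (k := k) p z₀
  haveI : IsMonHom w := isMonHom_wpt hz₀prim
  haveI : IsIso w := by
    haveI := isIso_toVec (p := p) hind₀ hgen₀
    have e : w = toVec (k := k) p (fun _ : Fin 1 => z₀) ≫ (ρ_ (Wk p k 1)).hom := by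
      rw [rightUnitor_hom]
      exact (lift_fst _ _).symm
    rw [e]
    exact @IsIso.comp_isIso _ _ _ _ _ (toVec (k := k) p (fun _ : Fin 1 => z₀)) _ ‹_› inferInstance
  haveI := isMonHom_pt π0
  haveI : IsMonHom (inv w) := WittGrp.isMonHom_of_comp_mul _
    ((cancel_mono w).1 (by rw [Category.assoc, IsIso.inv_hom_id, Category.comp_id, MonObj.one_comp]))
    fun T x y => (cancel_mono w).1 (by
      rw [Category.assoc, IsIso.inv_hom_id, Category.comp_id, MonObj.mul_comp (f₁ := x ≫ inv w) (g := w),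
        Category.assoc, Category.assoc, IsIso.inv_hom_id, Category.comp_id, Category.comp_id])
  refine ⟨φ, inv w ≫ CoactBr.pt (π0 : A →ₐ[k] C), hφ, inferInstance, ?_⟩
  exact (isKernel_pt φ π0 hπ0 hker).of_iso (asIso w) (Iso.refl _) (Iso.refl _) (Iso.refl _) (by simp)
    (toUnit_unique _ _) (by simp) (by simp)

end Groth.Agent.UniStr23
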