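import Groth.Agent.Lib.UniStr23.Coc
import Groth.Agent.Lib.UniStr23.Quot
import Mathlib.RingTheory.KrullDimension.Polynomial

/-!
# Induction along extensions by the additive group

`exists_sec`: normalised sections; `exists_polyEquiv`: extensions by the additive group are products of schemes;
`good_induction`; `Good.exists_mvPolyEquiv`: coordinate algebras are polynomial algebras; `Good.split`.
-/

set_option autoImplicit false
set_option linter.style.haveILetI false
set_option backward.isDefEq.respectTransparency.types false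
set_option maxSynthPendingDepth 3

universe u

open CategoryTheory AlgebraicGeometry MonObj MonoidalCategory CartesianMonoidalCategory
open Groth.Agent.WittHom23 Groth.Agent.WittExt23

noncomputable section

namespace Groth.Agent.UniStr23

variable {p : ℕ} [hp : Fact p.Prime] {k : Type u} [Field k] [CharP k p]

section sec

variable {A B' : Type u} [CommRing A] [HopfAlgebra k A] [CommRing B'] [HopfAlgebra k B'] [Coalgebra.IsCocomm k A]
  [Coalgebra.IsCocomm k B'] [Algebra.FiniteType k A] [Algebra.FiniteType k B'] {φ : B' →ₐc[k] A}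
  {i : Wk p k 1 ⟶ CoactBr.sp k A} [IsMonHom i] (hφ : Function.Injective φ)
  (hker : AlgGrp.IsKernel i (CoactBr.pt (φ : B' →ₐ[k] A)))

include hφ hker in
/-- Normalised sections. -/
theorem exists_sec : ∃ (sec : CoactBr.sp k B' ⟶ CoactBr.sp k A) (ρ : CoactBr.sp k A ⟶ Wk p k 1),
    sec ≫ CoactBr.pt (φ : B' →ₐ[k] A) = 𝟙 _ ∧
    (∀ {T : Over (Spec (CommRingCat.of k))}, (1 : T ⟶ CoactBr.sp k B') ≫ sec = 1) ∧
    ρ ≫ i = 𝟙 _ * (CoactBr.pt (φ : B' →ₐ[k] A) ≫ sec)⁻¹ := by
  haveI := isMonHom_pt φ
  obtain ⟨hflat, hsurj⟩ := flat_surjective_pt φ hφ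
  haveI := hflat; haveI := hsurj
  haveI : CompactSpace (CoactBr.sp k A).left := inferInstanceAs (CompactSpace (PrimeSpectrum A))
  haveI : IsAffine (CoactBr.sp k B').left := inferInstanceAs (IsAffine (Spec (CommRingCat.of B')))
  obtain ⟨s₀, hs₀⟩ := exists_section i (CoactBr.pt (φ : B' →ₐ[k] A)) hker
  let sec := s₀ * ((1 : CoactBr.sp k B' ⟶ CoactBr.sp k B') ≫ s₀)⁻¹
  have hsec : sec ≫ CoactBr.pt (φ : B' →ₐ[k] A) = 𝟙 _ := by
    rw [MonObj.mul_comp, GrpObj.inv_comp, Category.assoc, hs₀, Category.comp_id, inv_one, _root_.mul_one]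
  obtain ⟨ρ, hρ⟩ := exists_rho i (CoactBr.pt (φ : B' →ₐ[k] A)) hker sec hsec
  refine ⟨sec, ρ, hsec, fun {T} => ?_, hρ⟩
  show _ ≫ (s₀ * ((1 : CoactBr.sp k B' ⟶ CoactBr.sp k B') ≫ s₀)⁻¹) = 1
  rw [MonObj.comp_mul, GrpObj.comp_inv, ← Category.assoc, MonObj.comp_one, mul_inv_cancel]

include hφ hker in
/-- An extension by the additive group has a polynomial algebra over the quotient as coordinate algebra. -/
theorem exists_polyEquiv : Nonempty (A ≃ₐ[k] Polynomial B') := by
  haveI := isMonHom_pt φ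
  obtain ⟨sec, ρ, hsec, hone, hρ⟩ := exists_sec hφ hker
  let π := CoactBr.pt (φ : B' →ₐ[k] A)
  obtain ⟨a, ha⟩ := exists_wpt ρ
  let c : B' →ₐ[k] Polynomial B' := IsScalarTower.toAlgHom k B' (Polynomial B')
  let v : CoactBr.sp k (Polynomial B') ⟶ Wk p k 1 := wpt (k := k) p Polynomial.X
  let x := (CoactBr.pt c ≫ sec) * (v ≫ i)
  obtain ⟨ψ, hψ⟩ := exists_pt x
  let Φ : Polynomial B' →ₐ[k] A := (Polynomial.aevalTower (φ : B' →ₐ[k] A) a)
  have hΦc : Φ.comp c = (φ : B' →ₐ[k] A) := AlgHom.ext fun b => by simp [Φ, c]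
  have hΦX : Φ Polynomial.X = a := by simp [Φ]
  have hxπ : x ≫ π = CoactBr.pt c := by
    rw [MonObj.mul_comp, Category.assoc, hsec, Category.comp_id, Category.assoc, i_comp_pi i π hker, MonObj.comp_one,
      _root_.mul_one]
  refine ⟨AlgEquiv.ofAlgHom ψ Φ ?_ ?_⟩
  · refine Polynomial.algHom_ext' (AlgHom.ext fun b => ?_) ?_
    · have h := hxπ
      rw [← hψ, ← CoactBr.pt_comp] at h
      show ψ (Φ (c b)) = c b
      rw [show Φ (c b) = φ b from AlgHom.congr_fun hΦc b]
      exact AlgHom.congr_fun (pt_injective h) b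
    · show ψ (Φ Polynomial.X) = Polynomial.X
      rw [hΦX]
      refine wpt_injective (k := k) (p := p) ?_
      rw [← pt_comp_wpt, ha, hψ]
      refine cancel_i i π hker ?_
      rw [Category.assoc, hρ, MonObj.comp_mul, GrpObj.comp_inv, Category.comp_id, ← Category.assoc x π, hxπ]
      show (CoactBr.pt c ≫ sec) * (v ≫ i) * (CoactBr.pt c ≫ sec)⁻¹ = v ≫ i
      rw [mul_inv_cancel_comm]
  · refine pt_injective ?_
    rw [CoactBr.pt_comp, CoactBr.pt_id, hψ, MonObj.comp_mul, ← Category.assoc, ← CoactBr.pt_comp, hΦc, ← Category.assoc,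
      pt_comp_wpt, hΦX, ha, hρ, ← _root_.mul_assoc, _root_.mul_comm _ (𝟙 _), mul_inv_cancel_right]

end sec

variable [IsAlgClosed k]

/-- A group whose identity is trivial has only the constants as functions. -/
theorem bijective_algebraMap_of_trivial {A : Type u} [CommRing A] [HopfAlgebra k A] [Nontrivial A]
    (h : UnipPow23.powHom (k := k) (A := A) 1 = 1) : Function.Bijective (algebraMap k A) :=
  ⟨(algebraMap k A).injective, fun a => ⟨Coalgebra.counit (R := k) a, by
    rw [← (kill_iff 1).1 h a, UnipPow23.powHom, pow_one, WithConv.ofConv_toConv, AlgHom.id_apply]⟩⟩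

/-- Induction along extensions by the additive group. -/
theorem good_induction {motive : ∀ (A : Type u) [CommRing A] [HopfAlgebra k A], Prop}
    (triv : ∀ (A : Type u) [CommRing A] [HopfAlgebra k A], Good p k A →
      UnipPow23.powHom (k := k) (A := A) 1 = 1 → motive A)
    (step : ∀ (A B' : Type u) [CommRing A] [HopfAlgebra k A] [CommRing B'] [HopfAlgebra k B'], Good p k A → Good p k B' →
      ∀ (φ : B' →ₐc[k] A) (i : Wk p k 1 ⟶ CoactBr.sp k A), Function.Injective φ → IsMonHom i →
        AlgGrp.IsKernel i (CoactBr.pt (φ : B' →ₐ[k] A)) → motive B' → motive A)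
    (A : Type u) [CommRing A] [HopfAlgebra k A] (hA : Good p k A) : motive A := by
  classical
  have key : ∀ (n : ℕ) (A : Type u) [CommRing A] [HopfAlgebra k A], Good p k A → ringKrullDim A < n → motive A := by
    intro n
    induction n with
    | zero =>
      intro A _ _ hA hd
      haveI := hA.dom
      exact absurd hd (not_lt.2 ringKrullDim_nonneg_of_nontrivial)
    | succ n ih =>
      intro A _ _ hA hd
      by_cases h : UnipPow23.powHom (k := k) (A := A) 1 = 1
      · exact triv A hA h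
      obtain ⟨B', _, _, hB, φ, i, hφ, hi, hker⟩ := exists_ext hA h
      haveI := hi
      refine step A B' hA hB φ i hφ hi hker (ih B' hB ?_)
      haveI := hA.cocomm; haveI := hB.cocomm; haveI := hA.ft; haveI := hB.ft
      haveI := hB.dom
      haveI : IsNoetherianRing B' := Algebra.FiniteType.isNoetherianRing k B'
      obtain ⟨e⟩ := exists_polyEquiv hφ hker
      rw [ringKrullDim_eq_of_ringEquiv e.toRingEquiv, Polynomial.ringKrullDim_of_isNoetherianRing] at hd
      by_contra hle
      rw [not_lt] at hle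
      refine absurd hd (not_lt.2 ?_)
      calc ((n + 1 : ℕ) : WithBot ℕ∞) = (n : WithBot ℕ∞) + 1 := by push_cast; rfl
        _ ≤ _ := by gcongr
  haveI := hA.ft
  obtain ⟨n, f, hf⟩ := Algebra.FiniteType.iff_quotient_mvPolynomial''.1 (inferInstance : Algebra.FiniteType k A)
  refine key (n + 1) A hA (lt_of_le_of_lt (ringKrullDim_le_of_surjective f.toRingHom hf) ?_)
  rw [MvPolynomial.ringKrullDim_of_isNoetherianRing, ringKrullDim_eq_zero_of_field, zero_add]
  rw [Nat.card_fin]
  exact_mod_cast Nat.lt_succ_self n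

/-- The coordinate algebra of a connected commutative unipotent group is a polynomial algebra. -/
theorem Good.exists_mvPolyEquiv {A : Type u} [CommRing A] [HopfAlgebra k A] (hA : Good p k A) :
    ∃ d : ℕ, Nonempty (A ≃ₐ[k] MvPolynomial (Fin d) k) := by
  refine good_induction (motive := fun A _ _ => ∃ d : ℕ, Nonempty (A ≃ₐ[k] MvPolynomial (Fin d) k))
    (fun A _ _ hA h => ?_) (fun A B' _ _ _ _ hA hB φ i hφ hi hker ih => ?_) A hA
  · haveI := hA.dom
    exact ⟨0, ⟨(AlgEquiv.ofBijective (Algebra.ofId k A) (bijective_algebraMap_of_trivial h)).symm.trans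
      (MvPolynomial.isEmptyAlgEquiv k (Fin 0)).symm⟩⟩
  · haveI := hA.cocomm; haveI := hB.cocomm; haveI := hA.ft; haveI := hB.ft
    haveI := hi
    obtain ⟨d, ⟨e⟩⟩ := ih
    obtain ⟨e'⟩ := exists_polyEquiv hφ hker
    exact ⟨d + 1, ⟨e'.trans ((Polynomial.mapAlgEquiv e).trans (MvPolynomial.finSuccEquiv k d).symm)⟩⟩

omit [IsAlgClosed k] in
/-- In a group with trivial identity all points are trivial. -/
theorem eq_one_of_trivial {A : Type u} [CommRing A] [HopfAlgebra k A] (h : UnipPow23.powHom (k := k) (A := A) 1 = 1)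
    {T : Over (Spec (CommRingCat.of k))} (x : T ⟶ CoactBr.sp k A) : x = 1 := by
  have h1 := (UnipPow23.id_pow_eq_one_iff (k := k) (A := A) 1).2 h
  rw [pow_one] at h1
  rw [← Category.comp_id x, h1, MonObj.comp_one]

variable (p k) in
/-- `Split` as a property of Hopf algebras. -/
structure SplitAlg (A : Type u) [CommRing A] [HopfAlgebra k A] : Prop where
  split : Split p k (CoactBr.sp k A)

theorem splitAlg_of_trivial {A : Type u} [CommRing A] [HopfAlgebra k A] [Coalgebra.IsCocomm k A]
    (h : UnipPow23.powHom (k := k) (A := A) 1 = 1) : SplitAlg p k A :=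
  ⟨split_of_trivial fun {T} x => eq_one_of_trivial h x⟩

theorem splitAlg_of_ext {A B' : Type u} [CommRing A] [HopfAlgebra k A] [CommRing B'] [HopfAlgebra k B']
    [Coalgebra.IsCocomm k A] [Coalgebra.IsCocomm k B'] [Algebra.FiniteType k A] [Algebra.FiniteType k B']
    (φ : B' →ₐc[k] A) (i : Wk p k 1 ⟶ CoactBr.sp k A) [IsMonHom i] (hφ : Function.Injective φ)
    (hker : AlgGrp.IsKernel i (CoactBr.pt (φ : B' →ₐ[k] A))) (h : SplitAlg p k B') : SplitAlg p k A := by
  haveI := isMonHom_pt φ
  obtain ⟨sec, ρ, hsec, hone, hρ⟩ := exists_sec hφ hker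
  exact ⟨split_of_ext (CoactBr.pt (φ : B' →ₐ[k] A)) sec hsec hone i hker ρ hρ h.split⟩

/-- Symmetric cocycles on connected commutative unipotent groups split after a shift. -/
theorem Good.split {A : Type u} [CommRing A] [HopfAlgebra k A] (hA : Good p k A) :
    Split p k (CoactBr.sp k A) := by
  have h : SplitAlg p k A := by
    refine good_induction (motive := fun A i₁ i₂ => SplitAlg p k A)
      (fun A _ _ hA h => ?_) (fun A B' _ _ _ _ hA hB φ i hφ hi hker ih => ?_) A hA
    · haveI := hA.cocomm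
      exact splitAlg_of_trivial h
    · haveI := hA.cocomm; haveI := hB.cocomm; haveI := hA.ft; haveI := hB.ft
      exact @splitAlg_of_ext p _ k _ _ _ A B' _ _ _ _ _ _ _ _ φ i hi hφ hker ih
  exact h.split

end Groth.Agent.UniStr23
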