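import Groth.Agent.Lib.UniStr23.Pts
import Groth.Agent.Lib.GeomIrr18.Alg
import Groth.Agent.Lib.HopfFF23.Range
import Groth.Agent.Lib.WittHom23.Isogeny

/-!
# The identity component of an affine group over an algebraically closed field

`exists_component`: an affine group of finite type which is not finite has a quotient Hopf algebra which is a domain and
not the base field; `exists_Ga`: an infinite kernel of a homomorphism between unipotent groups contains an additive group.
-/

set_option autoImplicit false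
set_option linter.style.haveILetI false
set_option backward.isDefEq.respectTransparency.types false
set_option maxSynthPendingDepth 3

universe u

open CategoryTheory AlgebraicGeometry MonObj MonoidalCategory CartesianMonoidalCategory WithConv
open Groth.Agent.WittHom23 Groth.Agent.WittExt23
open scoped TensorProduct

noncomputable section

namespace Groth.Agent.UniStr23

variable {k : Type u} [Field k] [IsAlgClosed k]

section component

variable {C : Type u} [CommRing C] [HopfAlgebra k C]

/-- Translation by a rational point. -/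
def trans' (z : C →ₐ[k] k) : C →ₐ[k] C :=
  (Algebra.TensorProduct.lift (AlgHom.id k C) ((Algebra.ofId k C).comp z) fun _ _ => .all _ _).comp
    (Bialgebra.comulAlgHom k C)

omit [IsAlgClosed k] in
theorem trans'_eq (z : C →ₐ[k] k) :
    toConv (trans' z) = toConv (AlgHom.id k C) * toConv ((Algebra.ofId k C).comp z) := by
  refine ofConv_injective (AlgHom.ext fun a => ?_)
  rw [AlgHom.convMul_apply]
  rfl

omit [IsAlgClosed k] in
theorem counit_trans' (z : C →ₐ[k] k) : (Bialgebra.counitAlgHom k C).comp (trans' z) = z := by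
  refine toConv_injective ?_
  have h := AlgHom.comp_convMul_distrib (Bialgebra.counitAlgHom k C) (toConv (AlgHom.id k C))
    (toConv ((Algebra.ofId k C).comp z))
  rw [← trans'_eq] at h
  refine (congrArg toConv h).trans ?_
  rw [show (Bialgebra.counitAlgHom k C).comp ((toConv ((Algebra.ofId k C).comp z)).ofConv) = z from
    AlgHom.ext fun a => (Bialgebra.counitAlgHom k C).commutes _]
  rw [show toConv ((Bialgebra.counitAlgHom k C).comp ((toConv (AlgHom.id k C)).ofConv)) = 1 from rfl, _root_.one_mul]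

omit [IsAlgClosed k] in
theorem trans'_surjective (z : C →ₐ[k] k) : Function.Surjective (trans' z) := by
  have key : (trans' z).comp (trans' (z.comp (HopfAlgebra.antipodeAlgHom k C))) = AlgHom.id k C := by
    refine toConv_injective ?_
    have h := AlgHom.comp_convMul_distrib (trans' z) (toConv (AlgHom.id k C))
      (toConv ((Algebra.ofId k C).comp (z.comp (HopfAlgebra.antipodeAlgHom k C))))
    rw [← trans'_eq] at h
    refine (congrArg toConv h).trans ?_
    have h2 : (trans' z).comp ((toConv ((Algebra.ofId k C).comp (z.comp (HopfAlgebra.antipodeAlgHom k C)))).ofConv) =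
        (Algebra.ofId k C).comp (z.comp (HopfAlgebra.antipodeAlgHom k C)) := AlgHom.ext fun a => (trans' z).commutes _
    rw [h2, AlgHom.comp_id]
    show toConv (trans' z) * toConv ((Algebra.ofId k C).comp (z.comp (HopfAlgebra.antipodeAlgHom k C))) = _
    rw [trans'_eq, _root_.mul_assoc]
    have h3 := AlgHom.comp_convMul_distrib ((Algebra.ofId k C).comp z) (toConv (AlgHom.id k C))
      (toConv (HopfAlgebra.antipodeAlgHom k C))
    rw [show toConv (AlgHom.id k C) * toConv (HopfAlgebra.antipodeAlgHom k C) = 1 from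
      mul_eq_one_comm.1 AlgHom.antipode_id_cancel] at h3
    have h4 : toConv ((Algebra.ofId k C).comp z) * toConv ((Algebra.ofId k C).comp (z.comp (HopfAlgebra.antipodeAlgHom k C))) = 1 := by
      refine Eq.trans (congrArg toConv h3).symm (ofConv_injective (AlgHom.ext fun a => ?_))
      show algebraMap k C (z (algebraMap k C (Coalgebra.counit a))) = algebraMap k C (Coalgebra.counit a)
      rw [AlgHom.commutes, Algebra.algebraMap_self, RingHom.id_apply]
    rw [h4, _root_.mul_one]
  exact fun a => ⟨_, AlgHom.congr_fun key a⟩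

variable [Algebra.FiniteType k C]

omit [IsAlgClosed k] in
/-- A surjective endomorphism of a noetherian ring is injective. -/
theorem injective_of_surjective (τ : C →ₐ[k] C) (hτ : Function.Surjective τ) : Function.Injective τ := by
  haveI : IsNoetherianRing C := Algebra.FiniteType.isNoetherianRing k C
  let K : ℕ →o Ideal C := ⟨fun n => RingHom.ker (τ ^ n), monotone_nat_of_le_succ fun n x hx => by
    rw [RingHom.mem_ker] at hx ⊢
    rw [pow_succ', AlgHom.mul_apply, hx, map_zero]⟩
  obtain ⟨n, hn⟩ := monotone_stabilizes_iff_noetherian.mpr inferInstance K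
  have hs : ∀ m : ℕ, Function.Surjective ⇑(τ ^ m : C →ₐ[k] C) := fun m => by
    induction m with
    | zero => exact Function.surjective_id
    | succ m ih => intro y; obtain ⟨a, rfl⟩ := hτ y; obtain ⟨b, rfl⟩ := ih a; exact ⟨b, by rw [pow_succ', AlgHom.mul_apply]⟩
  refine (injective_iff_map_eq_zero τ).2 fun x hx => ?_
  obtain ⟨y, rfl⟩ := hs n x
  have h1 : y ∈ K (n + 1) := by
    show (τ ^ (n + 1)) y = 0
    rw [pow_succ', AlgHom.mul_apply, hx]
  rw [← hn (n + 1) (Nat.le_succ n)] at h1
  exact h1

variable (C) in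
/-- A group which is not finite has a quotient Hopf algebra which is a domain and not a field. -/
theorem exists_component (hinf : ¬ Module.Finite k C) :
    ∃ P : Ideal C, P.IsPrime ∧ P.IsHopfIdeal k ∧ ¬ P.IsMaximal := by
  classical
  haveI : IsNoetherianRing C := Algebra.FiniteType.isNoetherianRing k C
  haveI : IsJacobsonRing C := isJacobsonRing_of_finiteType (A := k)
  haveI : Nontrivial C := Bialgebra.nontrivial k
  let S := minimalPrimes C
  have hS : S.Finite := minimalPrimes.finite_of_isNoetherianRing C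
  let m := RingHom.ker (Bialgebra.counitAlgHom k C)
  haveI : m.IsPrime := RingHom.ker_isPrime _
  obtain ⟨P, hP, hPm⟩ := Ideal.exists_minimalPrimes_le (bot_le : (⊥ : Ideal C) ≤ m)
  haveI : P.IsPrime := hP.1.1
  -- some point lies on a single component
  obtain ⟨z₀, hz₀⟩ : ∃ z₀ : C →ₐ[k] k, ∀ Q ∈ S, ∀ Q' ∈ S, Q ≤ RingHom.ker z₀ → Q' ≤ RingHom.ker z₀ → Q = Q' := by
    have hnot : ¬ (hS.toFinset.erase P).inf id ≤ P := fun hle => by
      obtain ⟨Q, hQ, hQP⟩ := (Ideal.IsPrime.inf_le' (inferInstance : P.IsPrime)).1 hle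
      rw [Finset.mem_erase, Set.Finite.mem_toFinset] at hQ
      exact hQ.1 (le_antisymm hQP (hP.2 hQ.2.1 hQP))
    obtain ⟨f, hf, hfP⟩ := SetLike.not_le_iff_exists.1 hnot
    have hj : P.jacobson = P := (isJacobsonRing_iff.1 inferInstance) _ (inferInstance : P.IsPrime).isRadical
    rw [← hj, Ideal.jacobson, Submodule.mem_sInf] at hfP
    push Not at hfP
    obtain ⟨M, ⟨hPM, hM⟩, hfM⟩ := hfP
    haveI := hM
    obtain ⟨z, hz⟩ := HopfPts19.exists_point_ker (k := k) M
    have honly : ∀ Q ∈ S, Q ≤ RingHom.ker z → Q = P := fun Q hQ hle => by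
      by_contra hne
      refine hfM (hz ▸ hle ?_)
      have h1 : (hS.toFinset.erase P).inf id ≤ Q :=
        Finset.inf_le (Finset.mem_erase.2 ⟨hne, hS.mem_toFinset.2 hQ⟩)
      exact h1 hf
    exact ⟨z, fun Q hQ Q' hQ' h h' => (honly Q hQ h).trans (honly Q' hQ' h').symm⟩
  have hcomapmin : ∀ (τ : C →ₐ[k] C), Function.Surjective τ → ∀ Q ∈ S, Ideal.comap τ Q ∈ S := by
    intro τ hτ Q hQ
    haveI : Q.IsPrime := hQ.1.1
    have hinj : Function.Injective τ := injective_of_surjective τ hτ
    let e : C ≃+* C := RingEquiv.ofBijective τ.toRingHom ⟨hinj, hτ⟩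
    refine ⟨⟨Ideal.comap_isPrime _ _, bot_le⟩, fun R hR hRle => ?_⟩
    haveI : R.IsPrime := hR.1
    have hmap : Ideal.map (e : C →+* C) R ≤ Q := Ideal.map_le_iff_le_comap.2 hRle
    have hQle : Q ≤ Ideal.map (e : C →+* C) R := hQ.2 ⟨Ideal.map_isPrime_of_equiv e, bot_le⟩ hmap
    intro x hx
    obtain ⟨y, hy, hye⟩ := (Ideal.mem_map_iff_of_surjective (e : C →+* C) hτ).1 (hQle hx)
    rwa [hinj hye] at hy
  -- uniqueness of the component at every point
  have huniq : ∀ (z : C →ₐ[k] k), ∀ Q ∈ S, ∀ Q' ∈ S, Q ≤ RingHom.ker z → Q' ≤ RingHom.ker z → Q = Q' := by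
    intro z Q hQ Q' hQ' h h'
    let w : C →ₐ[k] k := ((toConv z)⁻¹ * toConv z₀).ofConv
    let τ := trans' w
    have hτ : z.comp τ = z₀ := by
      refine toConv_injective ?_
      have hh := AlgHom.comp_convMul_distrib z (toConv (AlgHom.id k C)) (toConv ((Algebra.ofId k C).comp w))
      rw [← trans'_eq] at hh
      refine (congrArg toConv hh).trans ?_
      rw [show z.comp ((toConv ((Algebra.ofId k C).comp w)).ofConv) = w from
        AlgHom.ext fun a => z.commutes _, AlgHom.comp_id]
      exact mul_inv_cancel_left _ _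
    have hle : ∀ R, R ≤ RingHom.ker z → Ideal.comap τ R ≤ RingHom.ker z₀ := fun R hR x hx => by
      rw [RingHom.mem_ker, ← hτ]
      exact hR hx
    have := hz₀ _ (hcomapmin τ (trans'_surjective w) Q hQ) _ (hcomapmin τ (trans'_surjective w) Q' hQ') (hle Q h) (hle Q' h')
    exact Ideal.comap_injective_of_surjective _ (trans'_surjective w) this
  have hε : ∀ Q : Ideal C, Q.IsPrime → Q ≤ m → P ≤ Q := fun Q hQ hQm => by
    haveI := hQ
    obtain ⟨Q', hQ', hle⟩ := Ideal.exists_minimalPrimes_le (bot_le : (⊥ : Ideal C) ≤ Q)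
    rw [huniq (Bialgebra.counitAlgHom k C) P hP Q' hQ' hPm (hle.trans hQm)]
    exact hle
  refine ⟨P, inferInstance, { counit_eq_zero := fun x hx => hPm hx, map_mkQ_comul_eq_zero := ?_, antipode_mem := ?_ },
    fun hmax => hinf ?_⟩
  · -- the coproduct
    intro x hx
    haveI : IsDomain ((C ⧸ P) ⊗[k] (C ⧸ P)) := GeomIrr.isDomain_tensor (C ⧸ P) (C ⧸ P)
    let q := Ideal.Quotient.mkₐ k P
    let F : C →ₐ[k] (C ⧸ P) ⊗[k] (C ⧸ P) := (Algebra.TensorProduct.map q q).comp (Bialgebra.comulAlgHom k C)
    have hFm : RingHom.ker F ≤ m := fun y hy => by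
      let ε0 : (C ⧸ P) →ₐ[k] k := Ideal.Quotient.liftₐ P (Bialgebra.counitAlgHom k C) fun a ha => hPm ha
      have h1 := congrArg (Algebra.TensorProduct.lift ε0 ε0 fun _ _ => .all _ _) (show F y = 0 from hy)
      rw [map_zero] at h1
      show Bialgebra.counitAlgHom k C y = 0
      refine Eq.trans ?_ h1
      show Coalgebra.counit (R := k) y = Algebra.TensorProduct.lift ε0 ε0 _ (Algebra.TensorProduct.map q q (Coalgebra.comul (R := k) y))
      have e : ∀ t : C ⊗[k] C, Algebra.TensorProduct.lift ε0 ε0 (fun _ _ => Commute.all _ _)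
          (Algebra.TensorProduct.map q q t) =
          Coalgebra.counit (R := k) (TensorProduct.rid k C ((Coalgebra.counit (R := k)).lTensor C t)) := by
        intro t
        induction t with
        | zero => simp
        | add u v hu hv => simp only [map_add, hu, hv]
        | tmul u v =>
          simp only [Algebra.TensorProduct.map_tmul, Algebra.TensorProduct.lift_tmul, LinearMap.lTensor_tmul,
            TensorProduct.rid_tmul, map_smul, smul_eq_mul]
          exact _root_.mul_comm _ _
      rw [e, Coalgebra.lTensor_counit_comul, TensorProduct.rid_tmul, one_smul]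
    exact hε (RingHom.ker F) (RingHom.ker_isPrime F) hFm hx
  · intro x hx
    have hle : P ≤ Ideal.comap (HopfAlgebra.antipodeAlgHom k C) P :=
      hε _ (Ideal.comap_isPrime _ _) fun y hy => by
        show Coalgebra.counit (R := k) y = 0
        rw [← HopfAlgebra.counit_antipode (R := k) y]
        exact hPm hy
    exact hle hx
  · rw [finite_iff_finite_points]
    have hall : ∀ Q ∈ S, Q.IsMaximal := by
      intro Q hQ
      haveI : Q.IsPrime := hQ.1.1
      obtain ⟨M, hM, hQM⟩ := Ideal.exists_le_maximal Q (inferInstance : Q.IsPrime).ne_top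
      haveI := hM
      obtain ⟨z, hz⟩ := HopfPts19.exists_point_ker (k := k) M
      have hcP : Ideal.comap (trans' z) P ∈ S := hcomapmin _ (trans'_surjective z) P hP
      have hle : Ideal.comap (trans' z) P ≤ RingHom.ker z := fun x hx => by
        rw [RingHom.mem_ker, ← counit_trans' z]
        exact hPm hx
      rw [huniq z Q hQ _ hcP (hQM.trans hz.ge) hle]
      haveI := hmax
      exact Ideal.comap_isMaximal_of_surjective _ (trans'_surjective z)
    haveI : Finite S := hS.to_subtype
    refine Finite.of_injective (fun z : C →ₐ[k] k => (⟨RingHom.ker z, ?_⟩ : S)) fun z z' h => ?_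
    · haveI : (RingHom.ker z).IsPrime := RingHom.ker_isPrime _
      obtain ⟨Q, hQ, hle⟩ := Ideal.exists_minimalPrimes_le (bot_le : (⊥ : Ideal C) ≤ RingHom.ker z)
      rw [← (hall Q hQ).eq_of_le (inferInstance : (RingHom.ker z).IsPrime).ne_top hle]
      exact hQ
    · have hk : RingHom.ker z = RingHom.ker z' := congrArg Subtype.val h
      refine AlgHom.ext fun a => ?_
      have h1 : a - algebraMap k C (z a) ∈ RingHom.ker z := by simp [RingHom.mem_ker]
      rw [hk, RingHom.mem_ker, map_sub, AlgHom.commutes, sub_eq_zero] at h1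
      simpa using h1.symm

end component

variable {p : ℕ} [hp : Fact p.Prime] [CharP k p] {A B' : Type u} [CommRing A] [CommRing B'] [HopfAlgebra k A]
  [HopfAlgebra k B']

omit [IsAlgClosed k] hp [CharP k p] in
theorem mono_pt_of_surjective (φ : B' →ₐc[k] A) (hφ : Function.Surjective φ) {T : Over (Spec (CommRingCat.of k))}
    {a b : T ⟶ CoactBr.sp k A} (h : a ≫ CoactBr.pt (φ : B' →ₐ[k] A) = b ≫ CoactBr.pt (φ : B' →ₐ[k] A)) : a = b :=
  DiagGL.ev_injective fun c => by
    obtain ⟨x, rfl⟩ := hφ c
    have h1 := congrArg (fun z => DiagGL.ev z x) h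
    simp only [DiagGL.ev_comp, ev_pt', ← ev_eq_app] at h1
    exact h1

/-- An infinite kernel contains an additive group. -/
theorem exists_Ga (hA : Good p k A) (φ : B' →ₐc[k] A)
    (hinf : ¬ Module.Finite k (A ⧸ kerIdeal φ)) :
    ∃ a : Wk p k 1 ⟶ CoactBr.sp k A, IsMonHom a ∧ a ≠ 1 ∧ a ≫ CoactBr.pt (φ : B' →ₐ[k] A) = 1 := by
  haveI := hA.ft
  haveI := MultTypeLib.isHopfIdeal_map_aug φ
  haveI : Algebra.FiniteType k (A ⧸ kerIdeal φ) :=
    Algebra.FiniteType.of_surjective (Ideal.Quotient.mkₐ k _) Ideal.Quotient.mk_surjective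
  obtain ⟨P, hP, hPh, hPmax⟩ := exists_component (A ⧸ kerIdeal φ) hinf
  haveI := hP; haveI := hPh
  let q1 : A →ₐc[k] A ⧸ kerIdeal φ := Bialgebra.Quotient.mkBialgHom (R := k) (kerIdeal φ)
  let q0 : (A ⧸ kerIdeal φ) →ₐc[k] (A ⧸ kerIdeal φ) ⧸ P := Bialgebra.Quotient.mkBialgHom (R := k) P
  have hs : Function.Surjective (q0.comp q1) := Ideal.Quotient.mk_surjective.comp Ideal.Quotient.mk_surjective
  have hC : Good p k ((A ⧸ kerIdeal φ) ⧸ P) := hA.of_surjective (q0.comp q1) hs
  have hne : UnipPow23.powHom (k := k) (A := (A ⧸ kerIdeal φ) ⧸ P) 1 ≠ 1 := fun h => hPmax (by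
    refine Ideal.Quotient.maximal_of_isField P ?_
    refine MulEquiv.isField (Field.toIsField k) ?_
    exact (RingEquiv.ofBijective (algebraMap k ((A ⧸ kerIdeal φ) ⧸ P)) ⟨(algebraMap k _).injective, fun a =>
      ⟨Coalgebra.counit (R := k) a, by
        rw [← (kill_iff 1).1 h a, UnipPow23.powHom, pow_one, ofConv_toConv, AlgHom.id_apply]⟩⟩).symm.toMulEquiv)
  obtain ⟨B'', _, _, -, ψ, i, -, hi, hker⟩ := exists_ext hC hne
  haveI := hi
  haveI := isMonHom_pt (q0.comp q1)
  refine ⟨i ≫ CoactBr.pt (q0.comp q1 : A →ₐ[k] _), inferInstance, fun h => ?_, ?_⟩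
  · obtain ⟨t, ht⟩ := exists_pt_ne_one (p := p) (k := k)
    haveI := isMonHom_pt ψ
    haveI := hC.cocomm
    refine ht ?_
    haveI : IsSplitMono (η[CoactBr.sp k B'']) := IsSplitMono.mk' ⟨toUnit _, toUnit_unique _ _⟩
    haveI : Mono i := hker.mono_fst_of_mono
    refine (cancel_mono i).1 (mono_pt_of_surjective (q0.comp q1) hs ?_)
    rw [MonObj.one_comp, MonObj.one_comp, Category.assoc, h, MonObj.comp_one]
  · haveI := isMonHom_pt φ
    rw [show ((q0.comp q1 : A →ₐc[k] (A ⧸ kerIdeal φ) ⧸ P) : A →ₐ[k] (A ⧸ kerIdeal φ) ⧸ P) =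
      (q0 : (A ⧸ kerIdeal φ) →ₐ[k] (A ⧸ kerIdeal φ) ⧸ P).comp (q1 : A →ₐ[k] A ⧸ kerIdeal φ) from rfl, CoactBr.pt_comp]
    simp only [Category.assoc]
    rw [(isKernel_kerIdeal φ).w]
    simp only [MonObj.one_eq_one, MonObj.comp_one]

end Groth.Agent.UniStr23
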