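import Groth.Agent.Lib.UniStr23.WP

/-!
# Splitting symmetric cocycles after a shift

`Split p k X`: every symmetric cocycle on `X` with values in a Witt group becomes a coboundary after a shift.
`split_of_trivial`, `split_of_ext`.
-/

set_option autoImplicit false
set_option linter.style.haveILetI false
set_option backward.isDefEq.respectTransparency.types false

universe u

open CategoryTheory AlgebraicGeometry MonObj MonoidalCategory CartesianMonoidalCategory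
open Groth.Agent.WittHom23 Groth.Agent.WittExt23

noncomputable section

namespace Groth.Agent.UniStr23

variable (p : ℕ) [hp : Fact p.Prime] (k : Type u) [Field k] [CharP k p]

/-- Symmetric cocycles become coboundaries after a shift. -/
def Split (X : Over (Spec (B k))) [GrpObj X] : Prop :=
  ∀ (m : ℕ) (f : X ⊗ X ⟶ Wk p k m), IsSymCoc f →
    ∃ (M : ℕ) (h : m ≤ M) (g : X ⟶ Wk p k M), f ≫ WittGrp.V p (Spec (B k)) h = cob g

variable {p k}

section pairs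

variable {X Y Z : Over (Spec (B k))} [GrpObj X] [GrpObj Y] [IsCommMonObj Y] [GrpObj Z] [IsCommMonObj Z]

theorem cob_comp (g : X ⟶ Y) (h : Y ⟶ Z) [IsMonHom h] : cob g ≫ h = cob (g ≫ h) := dl_comp g h _ _

theorem cob_mul (g g' : X ⟶ Y) : cob (g * g') = cob g * cob g' := dl_mul g g' _ _

theorem cob_inv (g : X ⟶ Y) : cob g⁻¹ = (cob g)⁻¹ := dl_inv g _ _

theorem pb_cob {X' : Over (Spec (B k))} [GrpObj X'] (h : X' ⟶ X) [IsMonHom h] (g : X ⟶ Y) :
    pb h (cob g) = cob (h ≫ g) := pair_ext fun x y => by rw [lift_pb, lift_cob, lift_cob, dl_comp_left]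

theorem pb_comp {X' : Over (Spec (B k))} (h : X' ⟶ X) (f : X ⊗ X ⟶ Y) (g : Y ⟶ Z) : pb h f ≫ g = pb h (f ≫ g) :=
  Category.assoc _ _ _

end pairs

theorem isSymCoc_of_comp_V {X : Over (Spec (B k))} [GrpObj X] {n m : ℕ} {f : X ⊗ X ⟶ Wk p k n} (h : n ≤ m)
    (hf : IsSymCoc (f ≫ WittGrp.V p (Spec (B k)) h)) : IsSymCoc f where
  symm x y := cancel_V h (by simpa only [Category.assoc] using hf.symm x y)
  coc x y z := cancel_V h (by simpa only [MonObj.mul_comp, Category.assoc] using hf.coc x y z)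

variable {X : Over (Spec (B k))} [GrpObj X] [IsCommMonObj X]

/-- It suffices to treat cocycles with values in the additive group. -/
theorem split_of_one (h1 : ∀ f : X ⊗ X ⟶ Wk p k 1, IsSymCoc f →
    ∃ (M : ℕ) (h : 1 ≤ M) (g : X ⟶ Wk p k M), f ≫ WittGrp.V p (Spec (B k)) h = cob g) : Split p k X := by
  intro m
  induction m with
  | zero => exact fun f hf => ⟨0, le_rfl, 1, (eq_one_of_zero _).trans (eq_one_of_zero _).symm⟩
  | succ m ih =>
    intro f hf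
    obtain ⟨M, hM, g, hg⟩ := ih (f ≫ WittGrp.R p (Spec (B k)) (Nat.le_add_right m 1)) (hf.comp_hom _)
    let V1 := WittGrp.V p (Spec (B k)) (Nat.add_le_add_right hM 1)
    let f' : X ⊗ X ⟶ Wk p k (M + 1) := (f ≫ V1) * (cob (g ≫ pad p k M))⁻¹
    have hf' : IsSymCoc f' := (hf.comp_hom V1).mul (isSymCoc_cob _).inv
    obtain ⟨f'', hf''⟩ := exists_comp_V (Nat.le_add_left 1 M) (Nat.le_add_right M 1) (by omega) f' (by
      rw [MonObj.mul_comp, GrpObj.inv_comp, Category.assoc, cob_comp, Category.assoc, pad_comp_R, Category.comp_id,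
        V_comp_R (Nat.add_le_add_right hM 1) (Nat.le_add_right M 1) (Nat.le_add_right m 1) hM, ← Category.assoc, hg,
        mul_inv_cancel])
    obtain ⟨M2, h2, g2, hg2⟩ := h1 f'' (isSymCoc_of_comp_V _ (hf''.symm ▸ hf'))
    have ha : M + 1 ≤ max (M + 1) M2 := le_max_left _ _
    have hb : M2 ≤ max (M + 1) M2 := le_max_right _ _
    have hm' : m + 1 ≤ max (M + 1) M2 := (Nat.add_le_add_right hM 1).trans ha
    refine ⟨max (M + 1) M2, hm', (g2 ≫ WittGrp.V p (Spec (B k)) hb) * (g ≫ pad p k M ≫ WittGrp.V p (Spec (B k)) ha), ?_⟩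
    rw [cob_mul, ← cob_comp, ← hg2, ← Category.assoc g (pad p k M), ← cob_comp, Category.assoc f'',
      V_comp_V h2 hb (h2.trans hb), ← V_comp_V (Nat.le_add_left 1 M) ha (h2.trans hb), ← Category.assoc f'', hf'',
      ← MonObj.mul_comp, show f' * cob (g ≫ pad p k M) = f ≫ V1 from inv_mul_cancel_right _ _, Category.assoc,
      V_comp_V (Nat.add_le_add_right hM 1) ha hm']

/-- On a trivial group cocycles are coboundaries. -/
theorem split_of_trivial (htriv : ∀ {T : Over (Spec (B k))} (x : T ⟶ X), x = 1) : Split p k X := by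
  intro m f hf
  refine ⟨m, le_rfl, (lift (𝟙 X) (𝟙 X)) ≫ f ≫ WittGrp.V p (Spec (B k)) le_rfl, pair_ext fun x y => ?_⟩
  rw [lift_cob, dl, htriv x, htriv y, _root_.one_mul]
  simp only [← Category.assoc, comp_lift, Category.comp_id]
  generalize (lift (1 : _ ⟶ X) 1 ≫ f) ≫ WittGrp.V p (Spec (B k)) le_rfl = a
  simp

section ext

variable {Q : Over (Spec (B k))} [GrpObj Q] [IsCommMonObj Q] {n : ℕ} (i : Wk p k n ⟶ X) [IsMonHom i] (π : X ⟶ Q)
  [IsMonHom π] (hker : AlgGrp.IsKernel i π)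
  (sec : Q ⟶ X) (ρ : X ⟶ Wk p k n) (hsec : sec ≫ π = 𝟙 Q) (hone : ∀ {T : Over (Spec (B k))}, (1 : T ⟶ Q) ≫ sec = 1)
  (hρ : ρ ≫ i = 𝟙 X * (π ≫ sec)⁻¹)

include hρ in
theorem eq_sec_mul {T : Over (Spec (B k))} (x : T ⟶ X) : x = (x ≫ π ≫ sec) * (x ≫ ρ ≫ i) := by
  rw [hρ, MonObj.comp_mul, GrpObj.comp_inv, Category.comp_id, _root_.mul_comm x, mul_inv_cancel_left]

include hker hsec hone hρ in
/-- A cocycle trivial on the kernel descends up to a coboundary. -/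
theorem exists_descend {Z : Over (Spec (B k))} [GrpObj Z] [IsCommMonObj Z] (f : X ⊗ X ⟶ Z) (hf : IsSymCoc f)
    (hN : ∀ {T : Over (Spec (B k))} (a b : T ⟶ Wk p k n), lift (a ≫ i) (b ≫ i) ≫ f = 1) :
    ∃ (g : X ⟶ Z) (f' : Q ⊗ Q ⟶ Z), IsSymCoc f' ∧ f = pb π f' * cob g := by
  let g : X ⟶ Z := (lift (π ≫ sec) (ρ ≫ i) ≫ f)⁻¹
  have hg : ∀ {T : Over (Spec (B k))} (x : T ⟶ X), x ≫ g = (lift (x ≫ π ≫ sec) (x ≫ ρ ≫ i) ≫ f)⁻¹ := fun x => by
    show x ≫ (lift _ _ ≫ f)⁻¹ = _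
    rw [GrpObj.comp_inv, ← Category.assoc, comp_lift]
  have hiπ : i ≫ π = 1 := i_comp_pi i π hker
  have hπsec : ∀ {T : Over (Spec (B k))} (x : T ⟶ X) (b : T ⟶ Wk p k n), (x * (b ≫ i)) ≫ π ≫ sec = x ≫ π ≫ sec :=
    fun x b => by
      rw [← Category.assoc, MonObj.mul_comp, Category.assoc b, hiπ, MonObj.comp_one, _root_.mul_one, Category.assoc]
  have hρi : ∀ {T : Over (Spec (B k))} (x : T ⟶ X) (b : T ⟶ Wk p k n),
      (x * (b ≫ i)) ≫ ρ ≫ i = (x ≫ ρ ≫ i) * (b ≫ i) := fun {T} x b => by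
    have h1 := eq_sec_mul i π sec ρ hρ (x * (b ≫ i))
    rw [hπsec] at h1
    conv at h1 => lhs; rw [eq_sec_mul i π sec ρ hρ x, _root_.mul_assoc]
    exact (mul_left_cancel h1).symm
  let f3 : X ⊗ X ⟶ Z := f * (cob g)⁻¹
  have hf3 : IsSymCoc f3 := hf.mul (isSymCoc_cob g).inv
  have hkill : ∀ {T : Over (Spec (B k))} (x : T ⟶ X) (b : T ⟶ Wk p k n), lift x (b ≫ i) ≫ f3 = 1 := by
    intro T x b
    have hb : (b ≫ i) ≫ g = 1 := by
      rw [hg, inv_eq_one, show (b ≫ i) ≫ π ≫ sec = (1 : T ⟶ Wk p k n) ≫ i from ?_, show (b ≫ i) ≫ ρ ≫ i = b ≫ i from ?_]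
      · exact hN 1 b
      · have := hρi (1 : T ⟶ X) b
        rw [_root_.one_mul] at this
        rw [this, ← Category.assoc (1 : T ⟶ X)]
        have h0 : (1 : T ⟶ X) ≫ π ≫ sec = 1 := by rw [← Category.assoc, MonObj.one_comp, hone]
        have h1 := eq_sec_mul i π sec ρ hρ (1 : T ⟶ X)
        rw [h0, _root_.one_mul, ← Category.assoc] at h1
        rw [← h1, _root_.one_mul]
      · have := hπsec (1 : T ⟶ X) b
        rw [_root_.one_mul] at this
        rw [this, ← Category.assoc, MonObj.one_comp, hone, MonObj.one_comp]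
    show lift x (b ≫ i) ≫ (f * (cob g)⁻¹) = 1
    rw [MonObj.comp_mul, GrpObj.comp_inv, lift_cob, dl, hb, _root_.mul_one, hg, hg, hπsec, hρi, inv_inv, mul_inv_eq_one]
    have h := hf.coc (x ≫ π ≫ sec) (x ≫ ρ ≫ i) (b ≫ i)
    rw [← eq_sec_mul i π sec ρ hρ x, ← Category.assoc x ρ, hN (x ≫ ρ) b, _root_.mul_one,
      Category.assoc x ρ] at h
    rw [_root_.mul_comm (_)⁻¹, eq_mul_inv_iff_mul_eq, _root_.mul_comm]
    exact h
  have hinv : ∀ {T : Over (Spec (B k))} (y x : T ⟶ X), lift y x ≫ f3 = lift y (x ≫ π ≫ sec) ≫ f3 := fun {T} y x => by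
    have h := hf3.coc y (x ≫ π ≫ sec) (x ≫ ρ ≫ i)
    rw [← eq_sec_mul i π sec ρ hρ x, ← Category.assoc x ρ, hkill, hkill, _root_.mul_one, _root_.mul_one] at h
    exact h.symm
  have hinv2 : ∀ {T : Over (Spec (B k))} (x y : T ⟶ X),
      lift x y ≫ f3 = lift (x ≫ π ≫ sec) (y ≫ π ≫ sec) ≫ f3 := fun x y => by
    rw [hinv x y, hf3.symm, hinv _ x, hf3.symm]
  refine ⟨g, pb sec f3, ⟨fun x y => by rw [lift_pb, lift_pb, hf3.symm], fun x y z => ?_⟩, pair_ext fun x y => ?_⟩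
  · simp only [lift_pb]
    have hc : ∀ {T : Over (Spec (B k))} (a b : T ⟶ Q), (a * b) ≫ sec = ((a ≫ sec) * (b ≫ sec)) ≫ π ≫ sec := fun a b => by
      rw [← Category.assoc ((a ≫ sec) * (b ≫ sec)) π sec, MonObj.mul_comp (f₁ := a ≫ sec) (g := π), Category.assoc a,
        Category.assoc b, hsec, Category.comp_id, Category.comp_id]
    have hs : ∀ {T : Over (Spec (B k))} (a : T ⟶ Q), (a ≫ sec) ≫ π ≫ sec = a ≫ sec := fun a => by
      rw [Category.assoc, ← Category.assoc sec, hsec, Category.id_comp]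
    have h := hf3.coc (x ≫ sec) (y ≫ sec) (z ≫ sec)
    rw [hinv2 (_ * _), hinv2 (x ≫ sec) (_ * _), ← hc, ← hc, hs, hs] at h
    exact h
  · rw [MonObj.comp_mul, lift_pb, lift_pb]
    simp only [Category.assoc]
    rw [← hinv2]
    show lift x y ≫ f = (lift x y ≫ (f * (cob g)⁻¹)) * (lift x y ≫ cob g)
    rw [MonObj.comp_mul, GrpObj.comp_inv, inv_mul_cancel_right]

variable [IsAlgClosed k] (i₁ : Wk p k 1 ⟶ X) [IsMonHom i₁] (hker₁ : AlgGrp.IsKernel i₁ π) (ρ₁ : X ⟶ Wk p k 1)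
  (hρ₁ : ρ₁ ≫ i₁ = 𝟙 X * (π ≫ sec)⁻¹)

include hker₁ hsec hone hρ₁ in
/-- An extension of a group with split cocycles by the additive group has split cocycles. -/
theorem split_of_ext (hQ : Split p k Q) : Split p k X := by
  refine split_of_one fun f hf => ?_
  obtain ⟨s, a, g1, hg1⟩ := classify_cn' 1 (pb i₁ f) (hf.pb i₁)
  obtain ⟨b, hb⟩ := cn_split (p := p) (k := k) 1 s a
  let V2 := WittGrp.V p (Spec (B k)) (Nat.le_add_left 1 1)
  let g0 : Wk p k 1 ⟶ Wk p k 2 := (pad p k 1 ≫ L p k 2 s b) * (g1 ≫ V2)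
  have hg0 : pb i₁ f ≫ V2 = cob g0 := pair_ext fun x y => by
    rw [hg1, MonObj.mul_comp, cob_comp, MonObj.comp_mul, cob_mul, MonObj.comp_mul]
    refine congrArg (· * _) ?_
    rw [lift_cob, ← Category.assoc]
    exact hb x y
  have hiρ : i₁ ≫ ρ₁ = 𝟙 _ := i_comp_rho i₁ π hker₁ sec hone hρ₁
  let f2 : X ⊗ X ⟶ Wk p k 2 := (f ≫ V2) * (cob (ρ₁ ≫ g0))⁻¹
  obtain ⟨g, f', hf', hfg⟩ := exists_descend i₁ π hker₁ sec ρ₁ hsec hone hρ₁ f2
    ((hf.comp_hom V2).mul (isSymCoc_cob _).inv) fun a' b' => by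
      have h1 := congrArg (fun F => lift a' b' ≫ F) hg0
      simp only [pb_comp, lift_pb, lift_cob] at h1
      rw [MonObj.comp_mul, GrpObj.comp_inv, lift_cob, ← dl_comp_left i₁, ← Category.assoc i₁, hiρ, Category.id_comp,
        h1, mul_inv_cancel]
  obtain ⟨M, hM, g', hg'⟩ := hQ 2 f' hf'
  let V := WittGrp.V p (Spec (B k)) hM
  refine ⟨M, (Nat.le_add_left 1 1).trans hM, (π ≫ g') * (g ≫ V) * (ρ₁ ≫ g0 ≫ V), ?_⟩
  rw [cob_mul, cob_mul, ← pb_cob π g', ← hg', ← pb_comp, ← Category.assoc ρ₁, ← cob_comp, ← cob_comp, ← MonObj.mul_comp,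
    ← hfg, ← MonObj.mul_comp, show f2 * cob (ρ₁ ≫ g0) = f ≫ V2 from inv_mul_cancel_right _ _, Category.assoc,
    V_comp_V (Nat.le_add_left 1 1) hM ((Nat.le_add_left 1 1).trans hM)]

end ext

end Groth.Agent.UniStr23
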