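import Groth.Agent.Lib.Unip23.Primitive
import Groth.Agent.Lib.HopfFlat20.Fg
import Mathlib.RingTheory.AlgebraicIndependent.Basic
import Mathlib.Algebra.MvPolynomial.PDeriv
import Mathlib.RingTheory.MvPolynomial.Expand
import Mathlib.FieldTheory.IsAlgClosed.Basic

/-!
# Primitive elements in characteristic `p`

`exists_indep`: finitely many primitive elements of a domain generate the same subalgebra as algebraically independent ones.
-/

set_option autoImplicit false
set_option backward.isDefEq.respectTransparency.types false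

universe u v

open scoped TensorProduct

noncomputable section

namespace Groth.Agent.UniStr23

open Unip23

variable {k : Type u} [Field k] {A : Type v} [CommRing A] [HopfAlgebra k A]

theorem isPrim_zero : IsPrim (k := k) (0 : A) := by simp [IsPrim]

theorem IsPrim.add' {x y : A} (hx : IsPrim (k := k) x) (hy : IsPrim (k := k) y) : IsPrim (k := k) (x + y) := by
  show CoalgebraStruct.comul (R := k) _ = _
  rw [map_add, show CoalgebraStruct.comul (R := k) x = _ from hx, show CoalgebraStruct.comul (R := k) y = _ from hy,
    TensorProduct.add_tmul, TensorProduct.tmul_add]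
  abel

theorem IsPrim.smul' {x : A} (c : k) (hx : IsPrim (k := k) x) : IsPrim (k := k) (c • x) := by
  show CoalgebraStruct.comul (R := k) _ = _
  rw [map_smul, show CoalgebraStruct.comul (R := k) x = _ from hx, smul_add, TensorProduct.smul_tmul',
    TensorProduct.tmul_smul]

variable (p : ℕ) [hp : Fact p.Prime] [CharP k p]

theorem IsPrim.pow_char' {x : A} (hx : IsPrim (k := k) x) (e : ℕ) : IsPrim (k := k) (x ^ p ^ e) := by
  haveI : Nontrivial (A ⊗[k] A) := Bialgebra.nontrivial k
  haveI : CharP (A ⊗[k] A) p := charP_of_injective_algebraMap (algebraMap k (A ⊗[k] A)).injective p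
  show CoalgebraStruct.comul (R := k) _ = _
  rw [Bialgebra.comul_pow, show CoalgebraStruct.comul (R := k) x = _ from hx, add_pow_char_pow,
    Algebra.TensorProduct.tmul_pow, Algebra.TensorProduct.tmul_pow, one_pow]

section additive

variable {n : ℕ}

/-- Sums of `p`-power monomials. -/
def IsLin (P : MvPolynomial (Fin n) k) : Prop := ∀ m ∈ P.support, ∃ i e, m = Finsupp.single i (p ^ e)

/-- The deviation from additivity. -/
def dev2 (P : MvPolynomial (Fin n) k) : MvPolynomial (Fin n ⊕ Fin n) k :=
  MvPolynomial.aeval (fun i => MvPolynomial.X (Sum.inl i) + MvPolynomial.X (Sum.inr i)) P -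
    MvPolynomial.rename Sum.inl P - MvPolynomial.rename Sum.inr P

variable (k n) in
/-- Derivation and evaluation at zero in the second block. -/
def ev0 : MvPolynomial (Fin n ⊕ Fin n) k →ₐ[k] MvPolynomial (Fin n) k :=
  MvPolynomial.aeval (Sum.elim MvPolynomial.X fun _ => 0)

theorem ev0_pderiv_add (P : MvPolynomial (Fin n) k) (i : Fin n) :
    ev0 k n (MvPolynomial.pderiv (Sum.inr i)
      (MvPolynomial.aeval (fun j => MvPolynomial.X (Sum.inl j) + MvPolynomial.X (Sum.inr j)) P)) =
      MvPolynomial.pderiv i P := by
  induction P using MvPolynomial.induction_on with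
  | C c => simp
  | add a b ha hb => simp only [map_add, ha, hb]
  | mul_X a j ha =>
    rw [map_mul, MvPolynomial.pderiv_mul, map_add, map_mul, map_mul, ha, MvPolynomial.pderiv_mul]
    have h1 : ev0 k n (MvPolynomial.aeval (fun j => MvPolynomial.X (Sum.inl j) + MvPolynomial.X (Sum.inr j)) a) = a := by
      have : (ev0 k n).comp (MvPolynomial.aeval fun j => MvPolynomial.X (Sum.inl j) + MvPolynomial.X (Sum.inr j)) =
          AlgHom.id k _ := MvPolynomial.algHom_ext fun j => by simp [ev0]
      exact DFunLike.congr_fun this a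
    rw [h1, MvPolynomial.aeval_X]
    simp only [map_add, MvPolynomial.pderiv_X, Pi.single_apply, ev0, MvPolynomial.aeval_X, Sum.elim_inl, Sum.elim_inr,
      add_zero, Sum.inr.injEq, reduceCtorEq, if_false, map_zero, zero_add]
    split_ifs <;> simp

/-- Left part of a pair of exponents. -/
abbrev lpart (μ : Fin n ⊕ Fin n →₀ ℕ) : Fin n →₀ ℕ := (Finsupp.sumFinsuppEquivProdFinsupp μ).1

/-- Right part of a pair of exponents. -/
abbrev rpart (μ : Fin n ⊕ Fin n →₀ ℕ) : Fin n →₀ ℕ := (Finsupp.sumFinsuppEquivProdFinsupp μ).2

theorem split_exp (μ : Fin n ⊕ Fin n →₀ ℕ) :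
    μ = (lpart μ).mapDomain Sum.inl + (rpart μ).mapDomain Sum.inr := by
  ext i
  cases i with
  | inl i =>
    rw [Finsupp.add_apply, Finsupp.mapDomain_apply Sum.inl_injective,
      Finsupp.mapDomain_of_notMem_range _ _ (by simp), add_zero]
    exact (Finsupp.fst_sumFinsuppEquivProdFinsupp μ i).symm
  | inr i =>
    rw [Finsupp.add_apply, Finsupp.mapDomain_apply Sum.inr_injective,
      Finsupp.mapDomain_of_notMem_range _ _ (by simp), zero_add]
    exact (Finsupp.snd_sumFinsuppEquivProdFinsupp μ i).symm

theorem lpart_left (a : Fin n →₀ ℕ) : lpart (a.mapDomain (Sum.inl : Fin n → Fin n ⊕ Fin n)) = a := by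
  ext i
  exact (Finsupp.fst_sumFinsuppEquivProdFinsupp _ i).trans (Finsupp.mapDomain_apply Sum.inl_injective _ _)

theorem rpart_right (a : Fin n →₀ ℕ) : rpart (a.mapDomain (Sum.inr : Fin n → Fin n ⊕ Fin n)) = a := by
  ext i
  exact (Finsupp.snd_sumFinsuppEquivProdFinsupp _ i).trans (Finsupp.mapDomain_apply Sum.inr_injective _ _)

/-- Setting one block to zero. -/
theorem coeff_kill (σ : Fin n → Fin n ⊕ Fin n) (hσ : Function.Injective σ) (g : Fin n ⊕ Fin n → MvPolynomial (Fin n) k)
    (hg : ∀ i, g (σ i) = MvPolynomial.X i) (hg0 : ∀ j, j ∉ Set.range σ → g j = 0)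
    (R : MvPolynomial (Fin n ⊕ Fin n) k) (a : Fin n →₀ ℕ) :
    (MvPolynomial.aeval g R).coeff a = R.coeff (a.mapDomain σ) := by
  classical
  induction R using MvPolynomial.induction_on' with
  | add p q hp hq => simp only [map_add, MvPolynomial.coeff_add, hp, hq]
  | monomial u c =>
    rw [MvPolynomial.aeval_monomial, MvPolynomial.algebraMap_eq, MvPolynomial.coeff_monomial]
    by_cases hu : ↑u.support ⊆ Set.range σ
    · obtain ⟨v, rfl⟩ : ∃ v, v.mapDomain σ = u := ⟨u.comapDomain σ hσ.injOn, Finsupp.mapDomain_comapDomain σ hσ u hu⟩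
      rw [Finsupp.prod_mapDomain_index_inj hσ]
      simp only [hg]
      rw [← MvPolynomial.monomial_eq, MvPolynomial.coeff_monomial]
      exact if_congr ⟨fun e => e ▸ rfl, fun e => Finsupp.mapDomain_injective hσ e⟩ rfl rfl
    · obtain ⟨j, hj, hjr⟩ := Set.not_subset.1 hu
      rw [if_neg, Finsupp.prod, Finset.prod_eq_zero hj, mul_zero, MvPolynomial.coeff_zero]
      · rw [hg0 j hjr, zero_pow (Finsupp.mem_support_iff.1 hj)]
      · intro e
        subst e
        exact hjr (by
          obtain ⟨i, -, rfl⟩ := Finset.mem_image.1 (Finsupp.mapDomain_support hj)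
          exact ⟨i, rfl⟩)

theorem deg_dev2_lt (P : MvPolynomial (Fin n) k) {d : ℕ} (hd : P.totalDegree ≤ d) (h0 : P.coeff 0 = 0)
    (μ : Fin n ⊕ Fin n →₀ ℕ) (hμ : (dev2 P).coeff μ ≠ 0) :
    Finsupp.degree (lpart μ) ≤ d - 1 ∧ Finsupp.degree (rpart μ) ≤ d - 1 := by
  classical
  have hz : MvPolynomial.aeval (fun _ : Fin n => (0 : MvPolynomial (Fin n) k)) P = 0 := by
    rw [MvPolynomial.aeval_zero', MvPolynomial.constantCoeff_eq, h0, map_zero]
  have hkill : ∀ (g : Fin n ⊕ Fin n → MvPolynomial (Fin n) k),
      (∀ i, g (Sum.inl i) + g (Sum.inr i) = MvPolynomial.X i) →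
      (∀ i, g (Sum.inl i) = 0) ∨ (∀ i, g (Sum.inr i) = 0) → MvPolynomial.aeval g (dev2 P) = 0 := by
    intro g hg hor
    have e1 : MvPolynomial.aeval g (MvPolynomial.aeval
        (fun j => MvPolynomial.X (Sum.inl j) + MvPolynomial.X (Sum.inr j) : Fin n → MvPolynomial (Fin n ⊕ Fin n) k) P) = P := by
      rw [← AlgHom.comp_apply, MvPolynomial.comp_aeval]
      simp only [map_add, MvPolynomial.aeval_X, hg]
      exact MvPolynomial.aeval_X_left_apply P
    rw [dev2, map_sub, map_sub, e1, MvPolynomial.aeval_rename, MvPolynomial.aeval_rename]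
    rcases hor with h | h
    · rw [show g ∘ Sum.inl = fun _ => (0 : MvPolynomial (Fin n) k) from funext h,
        show g ∘ Sum.inr = MvPolynomial.X from funext fun i => by have := hg i; rw [h, zero_add] at this; exact this,
        hz, MvPolynomial.aeval_X_left_apply]
      simp
    · rw [show g ∘ Sum.inr = fun _ => (0 : MvPolynomial (Fin n) k) from funext h,
        show g ∘ Sum.inl = MvPolynomial.X from funext fun i => by have := hg i; rw [h, add_zero] at this; exact this,
        hz, MvPolynomial.aeval_X_left_apply]
      simp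
  have hl : 0 < Finsupp.degree (lpart μ) := by
    refine Nat.pos_of_ne_zero fun e => hμ ?_
    have h1 := coeff_kill (k := k) Sum.inr Sum.inr_injective (Sum.elim (fun _ => 0) MvPolynomial.X) (fun _ => rfl)
      (fun j hj => by cases j with | inl _ => rfl | inr i => exact absurd ⟨i, rfl⟩ hj) (dev2 P) (rpart μ)
    rw [hkill _ (fun i => by simp) (Or.inl fun _ => rfl), MvPolynomial.coeff_zero] at h1
    rw [split_exp μ, (Finsupp.degree_eq_zero_iff _).1 e, Finsupp.mapDomain_zero, zero_add]
    exact h1.symm
  have hr : 0 < Finsupp.degree (rpart μ) := by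
    refine Nat.pos_of_ne_zero fun e => hμ ?_
    have h1 := coeff_kill (k := k) Sum.inl Sum.inl_injective (Sum.elim MvPolynomial.X (fun _ => 0)) (fun _ => rfl)
      (fun j hj => by cases j with | inr _ => rfl | inl i => exact absurd ⟨i, rfl⟩ hj) (dev2 P) (lpart μ)
    rw [hkill _ (fun i => by simp) (Or.inr fun _ => rfl), MvPolynomial.coeff_zero] at h1
    rw [split_exp μ, (Finsupp.degree_eq_zero_iff _).1 e, Finsupp.mapDomain_zero, add_zero]
    exact h1.symm
  have htot : Finsupp.degree μ ≤ d := by
    have h1 : (dev2 P).totalDegree ≤ d := by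
      have hX : ∀ j : Fin n, (MvPolynomial.X (Sum.inl j) + MvPolynomial.X (Sum.inr j) :
          MvPolynomial (Fin n ⊕ Fin n) k).totalDegree ≤ 1 := fun j =>
        (MvPolynomial.totalDegree_add _ _).trans (by simp)
      refine (MvPolynomial.totalDegree_sub _ _).trans (max_le ((MvPolynomial.totalDegree_sub _ _).trans (max_le ?_
        ((MvPolynomial.totalDegree_rename_le _ _).trans hd))) ((MvPolynomial.totalDegree_rename_le _ _).trans hd))
      conv_lhs => rw [MvPolynomial.as_sum P, map_sum]
      refine MvPolynomial.totalDegree_finsetSum_le fun m hm => ?_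
      rw [MvPolynomial.aeval_monomial, MvPolynomial.algebraMap_eq]
      refine (MvPolynomial.totalDegree_mul _ _).trans ?_
      rw [MvPolynomial.totalDegree_C, zero_add]
      refine (MvPolynomial.totalDegree_finsetProd _ _).trans (le_trans (Finset.sum_le_sum fun j _ => ?_)
        ((MvPolynomial.le_totalDegree hm).trans hd))
      exact (MvPolynomial.totalDegree_pow _ _).trans (le_trans (Nat.mul_le_mul_left _ (hX j)) (le_of_eq (mul_one _)))
    exact le_trans (MvPolynomial.le_totalDegree (MvPolynomial.mem_support_iff.2 hμ)) h1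
  rw [split_exp μ, map_add, Finsupp.degree_mapDomain, Finsupp.degree_mapDomain] at htot
  omega

theorem monomial_mem_range (d : ℕ) {W : Submodule k (MvPolynomial (Fin n ⊕ Fin n) k)}
    (hW : ∀ Q Q' : MvPolynomial (Fin n) k, Q ∈ MvPolynomial.restrictTotalDegree (Fin n) k (d - 1) →
      Q' ∈ MvPolynomial.restrictTotalDegree (Fin n) k (d - 1) →
      MvPolynomial.rename Sum.inl Q * MvPolynomial.rename Sum.inr Q' ∈ W)
    (μ : Fin n ⊕ Fin n →₀ ℕ) (c : k) (ha : Finsupp.degree (lpart μ) ≤ d - 1) (hb : Finsupp.degree (rpart μ) ≤ d - 1) :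
    MvPolynomial.monomial μ c ∈ W := by
  have h := hW (MvPolynomial.monomial (lpart μ) c) (MvPolynomial.monomial (rpart μ) 1)
    ((MvPolynomial.mem_restrictTotalDegree _ _ _).2 ((MvPolynomial.totalDegree_monomial_le _ _).trans ha))
    ((MvPolynomial.mem_restrictTotalDegree _ _ _).2 ((MvPolynomial.totalDegree_monomial_le _ _).trans hb))
  rwa [MvPolynomial.rename_monomial, MvPolynomial.rename_monomial, MvPolynomial.monomial_mul, mul_one, ← split_exp] at h

include hp in
theorem isLin_of_dev2 : ∀ (d : ℕ) (P : MvPolynomial (Fin n) k), P.totalDegree ≤ d → dev2 P = 0 → IsLin p P := by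
  intro d
  induction d using Nat.strong_induction_on with
  | _ d ih =>
    intro P hd hP m hm
    classical
    -- the derivatives are constant
    have hder : ∀ i, ∃ c, MvPolynomial.pderiv i P = MvPolynomial.C c := by
      intro i
      refine ⟨(ev0 k n (MvPolynomial.pderiv (Sum.inr i) (MvPolynomial.rename Sum.inr P))).coeff 0, ?_⟩
      have h := congrArg (fun Q => ev0 k n (MvPolynomial.pderiv (Sum.inr i) Q)) hP
      simp only [dev2, map_sub, map_zero, ev0_pderiv_add] at h
      have hl : MvPolynomial.pderiv (Sum.inr i) (MvPolynomial.rename (Sum.inl : Fin n → Fin n ⊕ Fin n) P) = 0 :=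
        MvPolynomial.pderiv_eq_zero_of_notMem_vars fun hmem => by
          obtain ⟨j, -, hj⟩ := Finset.mem_image.1 (MvPolynomial.vars_rename (R := k) _ P hmem)
          exact absurd hj (by simp)
      rw [hl, map_zero, sub_zero, sub_eq_zero] at h
      rw [h, MvPolynomial.pderiv_rename Sum.inr_injective]
      have hc : (ev0 k n).comp (MvPolynomial.rename (Sum.inr : Fin n → Fin n ⊕ Fin n)) =
          (Algebra.ofId k _).comp (MvPolynomial.aeval fun _ => (0 : k)) := MvPolynomial.algHom_ext fun j => by simp [ev0]
      have := DFunLike.congr_fun hc (MvPolynomial.pderiv i P)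
      simp only [AlgHom.comp_apply, Algebra.ofId_apply, MvPolynomial.algebraMap_eq] at this
      rw [this, MvPolynomial.coeff_zero_C]
    by_cases h1 : ∃ i, m = Finsupp.single i 1
    · obtain ⟨i, rfl⟩ := h1
      exact ⟨i, 0, by rw [pow_zero]⟩
    -- the exponents are divisible by `p`
    have hdvd : ∀ i, p ∣ m i := by
      intro i
      by_contra hpi
      obtain ⟨c, hc⟩ := hder i
      have hpos : 1 ≤ m i := Nat.one_le_iff_ne_zero.2 fun e => hpi (e ▸ dvd_zero p)
      have hle : Finsupp.single i 1 ≤ m := Finsupp.single_le_iff.2 hpos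
      have h2 := congrArg (MvPolynomial.coeff (m - Finsupp.single i 1)) hc
      rw [MvPolynomial.coeff_pderiv, tsub_add_cancel_of_le hle, MvPolynomial.coeff_C, if_neg] at h2
      · rw [Finsupp.tsub_apply, Finsupp.single_eq_same, ← Nat.cast_add_one, Nat.sub_add_cancel hpos] at h2
        exact (mul_ne_zero (MvPolynomial.mem_support_iff.1 hm) fun e => hpi ((CharP.cast_eq_zero_iff k p _).1 e)) h2
      · intro e
        exact h1 ⟨i, le_antisymm (tsub_eq_zero_iff_le.1 e.symm) hle⟩
    -- divide all exponents by `p`
    let f : (Fin n →₀ ℕ) → (Fin n →₀ ℕ) := fun m => Finsupp.mapRange (fun a => a / p) (Nat.zero_div p) m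
    have hfm : p • f m = m := Finsupp.ext fun i => by
      simp only [f, Finsupp.smul_apply, Finsupp.mapRange_apply, smul_eq_mul, Nat.mul_div_cancel' (hdvd i)]
    let good : Finset (Fin n →₀ ℕ) := P.support.filter fun m => ∀ i, p ∣ m i
    let Q : MvPolynomial (Fin n) k := ∑ m ∈ good, MvPolynomial.monomial (f m) (P.coeff m)
    have hQdev : MvPolynomial.expand p (dev2 Q) = 0 := by
      have hcomm : ∀ R : MvPolynomial (Fin n) k, MvPolynomial.expand p (dev2 R) = dev2 (MvPolynomial.expand p R) := by
        intro R
        haveI : CharP (MvPolynomial (Fin n ⊕ Fin n) k) p := inferInstance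
        have e1 : (MvPolynomial.expand p).comp
            (MvPolynomial.aeval fun j : Fin n => (MvPolynomial.X (Sum.inl j) + MvPolynomial.X (Sum.inr j) : MvPolynomial (Fin n ⊕ Fin n) k)) =
            (MvPolynomial.aeval fun j => MvPolynomial.X (Sum.inl j) + MvPolynomial.X (Sum.inr j)).comp (MvPolynomial.expand p) :=
          MvPolynomial.algHom_ext fun j => by simp [add_pow_char]
        rw [dev2, dev2, map_sub, map_sub, ← AlgHom.comp_apply, e1, AlgHom.comp_apply, MvPolynomial.rename_expand,
          MvPolynomial.rename_expand]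
      have hlin : P = MvPolynomial.expand p Q +
          ∑ m ∈ P.support.filter (fun m => ¬ ∀ i, p ∣ m i), MvPolynomial.monomial m (P.coeff m) := by
        conv_lhs => rw [MvPolynomial.as_sum P, ← Finset.sum_filter_add_sum_filter_not P.support (fun m => ∀ i, p ∣ m i)]
        congr 1
        rw [map_sum]
        refine Finset.sum_congr rfl fun m hm => ?_
        rw [MvPolynomial.expand_monomial]
        refine congrArg (fun u => MvPolynomial.monomial u (P.coeff m)) (Finsupp.ext fun i => ?_)
        simp only [f, Finsupp.smul_apply, Finsupp.mapRange_apply, smul_eq_mul,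
          Nat.mul_div_cancel' ((Finset.mem_filter.1 hm).2 i)]
      have hrest : dev2 (∑ m ∈ P.support.filter (fun m => ¬ ∀ i, p ∣ m i), MvPolynomial.monomial m (P.coeff m)) = 0 := by
        have hz : ∀ m ∈ P.support.filter (fun m => ¬ ∀ i, p ∣ m i), ∃ i, m = Finsupp.single i 1 := by
          intro m hm
          obtain ⟨hmP, hnd⟩ := Finset.mem_filter.1 hm
          push Not at hnd
          obtain ⟨i, hi⟩ := hnd
          obtain ⟨c, hc⟩ := hder i
          have hpos : 1 ≤ m i := Nat.one_le_iff_ne_zero.2 fun e => hi (e ▸ dvd_zero p)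
          have hle : Finsupp.single i 1 ≤ m := Finsupp.single_le_iff.2 hpos
          refine ⟨i, ?_⟩
          by_contra hne
          have h2 := congrArg (MvPolynomial.coeff (m - Finsupp.single i 1)) hc
          rw [MvPolynomial.coeff_pderiv, tsub_add_cancel_of_le hle, MvPolynomial.coeff_C, if_neg] at h2
          · rw [Finsupp.tsub_apply, Finsupp.single_eq_same, ← Nat.cast_add_one, Nat.sub_add_cancel hpos] at h2
            exact (mul_ne_zero (MvPolynomial.mem_support_iff.1 hmP) fun e => hi ((CharP.cast_eq_zero_iff k p _).1 e)) h2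
          · exact fun e => hne (le_antisymm (tsub_eq_zero_iff_le.1 e.symm) hle)
        simp only [dev2, map_sum, ← Finset.sum_sub_distrib]
        refine Finset.sum_eq_zero fun m hm => ?_
        obtain ⟨i, rfl⟩ := hz m hm
        simp [MvPolynomial.monomial_eq, mul_add]
      rw [hcomm]
      have hP' := hP
      rw [hlin] at hP'
      unfold dev2 at hP' hrest ⊢
      simp only [map_add] at hP'
      linear_combination hP' - hrest
    have hQ0 : dev2 Q = 0 := MvPolynomial.expand_injective (R := k) hp.out.ne_zero.bot_lt (by rw [hQdev, map_zero])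
    have hdm : (m.sum fun _ e => e) ≤ d := le_trans (MvPolynomial.le_totalDegree hm) hd
    have hd0 : 0 < d := by
      by_contra hd0
      have hm0 : m = 0 := by
        ext i
        by_contra hi
        have h3 : m i ≤ m.sum fun _ e => e := Finset.single_le_sum (f := fun j => m j) (fun _ _ => Nat.zero_le _)
          (Finsupp.mem_support_iff.2 hi)
        simp only [Finsupp.coe_zero, Pi.zero_apply] at hi
        omega
      have h4 := congrArg (MvPolynomial.coeff 0) hP
      have hc0 : ∀ (g : Fin n → MvPolynomial (Fin n ⊕ Fin n) k), (∀ j, (g j).coeff 0 = 0) →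
          ∀ R : MvPolynomial (Fin n) k, (MvPolynomial.aeval g R).coeff 0 = R.coeff 0 := fun g hg R => by
        rw [← MvPolynomial.constantCoeff_eq, ← MvPolynomial.constantCoeff_eq]
        induction R using MvPolynomial.induction_on with
        | C c => simp
        | add a b ha hb => simp only [map_add, ha, hb]
        | mul_X a j _ =>
          rw [map_mul, map_mul, map_mul, MvPolynomial.aeval_X, MvPolynomial.constantCoeff_X,
            show MvPolynomial.constantCoeff (g j) = 0 from hg j, mul_zero, mul_zero]
      rw [dev2, MvPolynomial.coeff_sub, MvPolynomial.coeff_sub, hc0 _ (fun j => by simp) P, MvPolynomial.coeff_zero] at h4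
      rw [show (MvPolynomial.rename Sum.inl P).coeff 0 = P.coeff 0 from MvPolynomial.constantCoeff_rename _ P,
        show (MvPolynomial.rename Sum.inr P).coeff 0 = P.coeff 0 from MvPolynomial.constantCoeff_rename _ P] at h4
      exact MvPolynomial.mem_support_iff.1 hm (hm0 ▸ by simpa using h4)
    have hQdeg : Q.totalDegree ≤ d - 1 := by
      refine le_trans (MvPolynomial.totalDegree_finsetSum _ _) (Finset.sup_le fun m' hm' => ?_)
      refine le_trans (MvPolynomial.totalDegree_monomial_le _ _) ?_
      show ((f m').sum fun _ e => e) ≤ d - 1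
      have h5 : ((m'.sum fun _ e => e) : ℕ) ≤ d := le_trans (MvPolynomial.le_totalDegree (Finset.mem_filter.1 hm').1) hd
      have h6 : p * ((f m').sum fun _ e => e) = m'.sum fun _ e => e := by
        rw [Finsupp.sum_mapRange_index (fun _ => rfl), Finsupp.mul_sum]
        exact Finsupp.sum_congr fun i _ => Nat.mul_div_cancel' ((Finset.mem_filter.1 hm').2 i)
      have := hp.out.two_le
      rcases Nat.eq_zero_or_pos ((f m').sum fun _ e => e) with h7 | h7
      · omega
      · have h8 : 2 * ((f m').sum fun _ e => e) ≤ p * ((f m').sum fun _ e => e) := Nat.mul_le_mul_right _ this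
        omega
    have hmQ : f m ∈ Q.support := by
      rw [MvPolynomial.mem_support_iff, MvPolynomial.coeff_sum,
        Finset.sum_eq_single m, MvPolynomial.coeff_monomial, if_pos rfl]
      · exact MvPolynomial.mem_support_iff.1 hm
      · intro m' hm' hne
        rw [MvPolynomial.coeff_monomial, if_neg]
        intro e
        refine hne ?_
        have := congrArg (p • ·) e
        simp only [hfm] at this
        rw [← this]
        exact Finsupp.ext fun i => by
          simp only [f, Finsupp.smul_apply, Finsupp.mapRange_apply, smul_eq_mul,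
            Nat.mul_div_cancel' ((Finset.mem_filter.1 hm').2 i)]
      · exact fun h => absurd (Finset.mem_filter.2 ⟨hm, hdvd⟩) h
    obtain ⟨i, e, he⟩ := ih (d - 1) (by omega) Q hQdeg hQ0 (f m) hmQ
    exact ⟨i, e + 1, by rw [← hfm, he, Finsupp.smul_single, smul_eq_mul, pow_succ']⟩

end additive

/-- No relation `Σ Σ a i e • (z i) ^ p ^ e = 0`. -/
def PIndep {n : ℕ} (z : Fin n → A) : Prop :=
  ∀ (N : Fin n → ℕ) (a : Fin n → ℕ → k), ∑ i, ∑ e ∈ Finset.range (N i), a i e • z i ^ p ^ e = 0 →
    ∀ i, ∀ e < N i, a i e = 0

include hp in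
theorem algebraicIndependent_of_pIndep [IsDomain A] {n : ℕ} (z : Fin n → A) (hz : ∀ i, IsPrim (k := k) (z i))
    (h : PIndep (k := k) p z) : AlgebraicIndependent k z := by
  classical
  rw [algebraicIndependent_iff]
  suffices H : ∀ (d : ℕ) (P : MvPolynomial (Fin n) k), P.totalDegree ≤ d → MvPolynomial.aeval z P = 0 → P = 0 from
    fun P hP => H _ P le_rfl hP
  intro d
  induction d using Nat.strong_induction_on with
  | _ d ih =>
    intro P hd hP
    by_contra hP0
    -- polynomials of smaller degree in both blocks embed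
    have hdev : dev2 P = 0 := by
      by_contra hne
      let φ : MvPolynomial (Fin n ⊕ Fin n) k →ₐ[k] A ⊗[k] A :=
        MvPolynomial.aeval (Sum.elim (fun i => z i ⊗ₜ[k] (1 : A)) fun i => (1 : A) ⊗ₜ[k] z i)
      have h0 : φ (dev2 P) = 0 := by
        have e1 : φ.comp (MvPolynomial.aeval fun j => MvPolynomial.X (Sum.inl j) + MvPolynomial.X (Sum.inr j)) =
            (Bialgebra.comulAlgHom k A).comp (MvPolynomial.aeval z) := MvPolynomial.algHom_ext fun j => by
          simp only [AlgHom.comp_apply, MvPolynomial.aeval_X, map_add, φ, Sum.elim_inl, Sum.elim_inr]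
          exact (hz j).symm
        have e2 : φ.comp (MvPolynomial.rename Sum.inl) =
            (Algebra.TensorProduct.includeLeft : A →ₐ[k] A ⊗[k] A).comp (MvPolynomial.aeval z) :=
          MvPolynomial.algHom_ext fun j => by simp [φ]
        have e3 : φ.comp (MvPolynomial.rename Sum.inr) =
            (Algebra.TensorProduct.includeRight : A →ₐ[k] A ⊗[k] A).comp (MvPolynomial.aeval z) :=
          MvPolynomial.algHom_ext fun j => by simp [φ]
        rw [dev2, map_sub, map_sub, ← AlgHom.comp_apply, e1, ← AlgHom.comp_apply, e2, ← AlgHom.comp_apply, e3,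
          AlgHom.comp_apply, AlgHom.comp_apply, AlgHom.comp_apply, hP]
        simp
      let V := MvPolynomial.restrictTotalDegree (Fin n) k (d - 1)
      have hV : Function.Injective ((MvPolynomial.aeval z).toLinearMap ∘ₗ V.subtype) := by
        rw [← LinearMap.ker_eq_bot, LinearMap.ker_eq_bot']
        rintro ⟨Q, hQ⟩ hQ0
        rcases Nat.eq_zero_or_pos d with hd0 | hd0
        · subst hd0
          have hc := (MvPolynomial.totalDegree_eq_zero_iff_eq_C).1 (Nat.le_zero.1 hd)
          rw [hc, MvPolynomial.aeval_C] at hP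
          exact absurd (by rw [hc, (algebraMap k A).injective (hP.trans (map_zero _).symm), map_zero]) hP0
        · exact Subtype.ext (ih (d - 1) (by omega) Q ((MvPolynomial.mem_restrictTotalDegree _ _ _).1 hQ) hQ0)
      let ψ : V ⊗[k] V →ₗ[k] MvPolynomial (Fin n ⊕ Fin n) k :=
        TensorProduct.lift ((LinearMap.mul k _).compl₁₂
          ((MvPolynomial.rename Sum.inl).toLinearMap ∘ₗ V.subtype) ((MvPolynomial.rename Sum.inr).toLinearMap ∘ₗ V.subtype))
      have hψ : φ.toLinearMap ∘ₗ ψ = TensorProduct.map ((MvPolynomial.aeval z).toLinearMap ∘ₗ V.subtype)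
          ((MvPolynomial.aeval z).toLinearMap ∘ₗ V.subtype) := by
        refine TensorProduct.ext' fun a b => ?_
        simp only [ψ, LinearMap.comp_apply, TensorProduct.lift.tmul, LinearMap.compl₁₂_apply, LinearMap.mul_apply',
          AlgHom.toLinearMap_apply, map_mul, TensorProduct.map_tmul, φ, MvPolynomial.aeval_rename,
          Sum.elim_comp_inl, Sum.elim_comp_inr, Submodule.subtype_apply]
        have el : ∀ Q : MvPolynomial (Fin n) k, MvPolynomial.aeval (fun i => z i ⊗ₜ[k] (1 : A)) Q =
            MvPolynomial.aeval z Q ⊗ₜ[k] (1 : A) := fun Q => DFunLike.congr_fun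
              (MvPolynomial.comp_aeval z (Algebra.TensorProduct.includeLeft : A →ₐ[k] A ⊗[k] A)).symm Q
        have er : ∀ Q : MvPolynomial (Fin n) k, MvPolynomial.aeval (fun i => (1 : A) ⊗ₜ[k] z i) Q =
            (1 : A) ⊗ₜ[k] MvPolynomial.aeval z Q := fun Q => DFunLike.congr_fun
              (MvPolynomial.comp_aeval z (Algebra.TensorProduct.includeRight : A →ₐ[k] A ⊗[k] A)).symm Q
        rw [el, er, Algebra.TensorProduct.tmul_mul_tmul, mul_one, one_mul]
      have hrange : dev2 P ∈ LinearMap.range ψ := by
        have hP00 : P.coeff 0 = 0 := by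
          have h1 := congrArg (Bialgebra.counitAlgHom k A) hP
          rw [map_zero, ← AlgHom.comp_apply, MvPolynomial.comp_aeval,
            show (fun l => Bialgebra.counitAlgHom k A (z l)) = fun _ => (0 : k) from funext fun l => counit_of_isPrim (hz l),
            MvPolynomial.aeval_eq_eval] at h1
          rw [← MvPolynomial.constantCoeff_eq, ← MvPolynomial.eval_zero']
          exact h1
        rw [MvPolynomial.as_sum (dev2 P)]
        refine Submodule.sum_mem _ fun μ hμ => ?_
        obtain ⟨ha, hb⟩ := deg_dev2_lt P hd hP00 μ (MvPolynomial.mem_support_iff.1 hμ)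
        exact monomial_mem_range d (fun Q Q' hQ hQ' => LinearMap.mem_range.2 ⟨(⟨Q, hQ⟩ : V) ⊗ₜ (⟨Q', hQ'⟩ : V), rfl⟩) μ _ ha hb
      obtain ⟨w, hw⟩ := hrange
      have h2 : TensorProduct.map ((MvPolynomial.aeval z).toLinearMap ∘ₗ V.subtype)
          ((MvPolynomial.aeval z).toLinearMap ∘ₗ V.subtype) w = 0 := by
        rw [← hψ, LinearMap.comp_apply, hw]
        exact h0
      have hw0 : w = 0 := TensorProduct.map_injective_of_flat_flat _ _ hV hV (h2.trans (map_zero _).symm)
      exact hne (by rw [← hw, hw0, map_zero])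
    -- an additive polynomial vanishing on `z`
    have hlin := isLin_of_dev2 p d P hd hdev
    obtain ⟨m, hm⟩ := MvPolynomial.ne_zero_iff.1 hP0
    obtain ⟨i₀, e₀, rfl⟩ := hlin m (MvPolynomial.mem_support_iff.2 hm)
    obtain ⟨N, hN⟩ : ∃ N, ∀ i e, MvPolynomial.coeff (Finsupp.single i (p ^ e)) P ≠ 0 → e < N := by
      refine ⟨d + 1, fun i e he => ?_⟩
      have := le_trans (MvPolynomial.le_totalDegree (MvPolynomial.mem_support_iff.2 he)) hd
      rw [Finsupp.sum_single_index rfl] at this
      have := (Nat.lt_pow_self hp.out.one_lt (n := e))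
      omega
    refine hm (h (fun _ => N) (fun i e => MvPolynomial.coeff (Finsupp.single i (p ^ e)) P) ?_ i₀ e₀ (hN _ _ hm))
    refine Eq.trans ?_ hP
    let g : Fin n × ℕ → (Fin n →₀ ℕ) := fun q => Finsupp.single q.1 (p ^ q.2)
    have hg : Function.Injective g := by
      rintro ⟨i, e⟩ ⟨i', e'⟩ h2
      rcases (Finsupp.single_eq_single_iff _ _ _ _).1 h2 with ⟨e1, e2⟩ | ⟨e1, -⟩
      · exact Prod.ext e1 (Nat.pow_right_injective hp.out.two_le e2)
      · exact absurd e1 (pow_ne_zero _ hp.out.ne_zero)
    have hsub : P.support ⊆ (Finset.univ ×ˢ Finset.range N).image g := fun m hm => by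
      obtain ⟨i, e, rfl⟩ := hlin m hm
      exact Finset.mem_image.2 ⟨(i, e), Finset.mem_product.2 ⟨Finset.mem_univ _,
        Finset.mem_range.2 (hN _ _ (MvPolynomial.mem_support_iff.1 hm))⟩, rfl⟩
    have hsum : P = ∑ m ∈ (Finset.univ ×ˢ Finset.range N).image g, MvPolynomial.monomial m (P.coeff m) := by
      conv_lhs => rw [MvPolynomial.as_sum P]
      exact Finset.sum_subset hsub fun m _ hm => by rw [MvPolynomial.notMem_support_iff.1 hm, map_zero]
    rw [Finset.sum_image fun _ _ _ _ h => hg h] at hsum
    conv_rhs => rw [hsum, map_sum]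
    rw [← Finset.sum_product']
    refine Finset.sum_congr rfl fun q _ => ?_
    rw [MvPolynomial.aeval_monomial, Finsupp.prod_single_index (by exact pow_zero _), Algebra.smul_def]

include hp in
/-- Finitely many primitive elements of a domain can be replaced by algebraically independent ones. -/
theorem exists_indep [IsAlgClosed k] [IsDomain A] {r : ℕ} (x : Fin r → A) (hx : ∀ i, IsPrim (k := k) (x i)) :
    ∃ (n : ℕ) (z : Fin n → A), (∀ i, IsPrim (k := k) (z i)) ∧ AlgebraicIndependent k z ∧
      Algebra.adjoin k (Set.range z) = Algebra.adjoin k (Set.range x) := by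
  classical
  let good : ℕ → Prop := fun n => ∃ z : Fin n → A, (∀ i, IsPrim (k := k) (z i)) ∧
      Algebra.adjoin k (Set.range z) = Algebra.adjoin k (Set.range x)
  have hex : ∃ n, good n := ⟨r, x, hx, rfl⟩
  obtain ⟨z, hz, hgen⟩ := Nat.find_spec hex
  refine ⟨_, z, hz, algebraicIndependent_of_pIndep p z hz ?_, hgen⟩
  suffices H : ∀ (M : ℕ) (z : Fin (Nat.find hex) → A), (∀ i, IsPrim (k := k) (z i)) →
      Algebra.adjoin k (Set.range z) = Algebra.adjoin k (Set.range x) →
      ∀ (N : Fin (Nat.find hex) → ℕ) (a : Fin (Nat.find hex) → ℕ → k), ∑ i, N i = M →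
        ∑ i, ∑ e ∈ Finset.range (N i), a i e • z i ^ p ^ e = 0 → ∀ i, ∀ e < N i, a i e = 0 from
    fun N a h => H _ z hz hgen N a rfl h
  intro M
  induction M using Nat.strong_induction_on with
  | _ M ih =>
    intro z hz hgen N a hM hrel
    -- leading coefficients are non-zero
    by_cases htop : ∃ i, 0 < N i ∧ a i (N i - 1) = 0
    · obtain ⟨i, hNi, hai⟩ := htop
      let N' := Function.update N i (N i - 1)
      have hlt : ∑ j, N' j < M := hM ▸ Finset.sum_lt_sum
        (fun j _ => by by_cases h : j = i <;> simp [N', Function.update, h])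
        ⟨i, Finset.mem_univ _, by simp [N']; omega⟩
      have hrel' : ∑ j, ∑ e ∈ Finset.range (N' j), a j e • z j ^ p ^ e = 0 := by
        refine Eq.trans (Finset.sum_congr rfl fun j _ => ?_) hrel
        by_cases h : j = i
        · subst h
          conv_rhs => rw [show N j = (N j - 1) + 1 by omega, Finset.sum_range_succ, hai, zero_smul, add_zero]
          simp [N']
        · simp [N', Function.update, h]
      intro j e he
      by_cases h : j = i ∧ e = N i - 1
      · rw [h.1, h.2]; exact hai
      · refine ih _ hlt z hz hgen N' a rfl hrel' j e ?_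
        by_cases hj : j = i
        · subst hj; simp only [N', Function.update_self]; have : e ≠ N j - 1 := fun e' => h ⟨rfl, e'⟩; omega
        · simpa [N', Function.update, hj] using he
    push Not at htop
    intro i₁ e₁ he₁
    exfalso
    obtain ⟨i, hi, himax⟩ := Finset.exists_max_image Finset.univ N ⟨i₁, Finset.mem_univ _⟩
    have hNi : 0 < N i := lt_of_lt_of_le (Nat.zero_lt_of_lt he₁) (himax i₁ (Finset.mem_univ _))
    by_cases hj : ∃ j, j ≠ i ∧ 0 < N j
    · obtain ⟨j, hji, hNj⟩ := hj
      obtain ⟨c, hc⟩ := IsAlgClosed.exists_pow_nat_eq (a i (N i - 1) / a j (N j - 1)) (pow_pos hp.out.pos (N j - 1))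
      let δ := N i - N j
      have hδ : N j ≤ N i := himax j (Finset.mem_univ _)
      let z' := Function.update z j (z j + c • z i ^ p ^ δ)
      have hz' : ∀ l, IsPrim (k := k) (z' l) := fun l => by
        by_cases h : l = j
        · subst h; simp only [z', Function.update_self]
          exact IsPrim.add' (hz l) (IsPrim.smul' c (IsPrim.pow_char' p (hz i) δ))
        · simpa [z', Function.update, h] using hz l
      have hgen' : Algebra.adjoin k (Set.range z') = Algebra.adjoin k (Set.range x) := by
        rw [← hgen]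
        refine le_antisymm (Algebra.adjoin_le ?_) (Algebra.adjoin_le ?_) <;> rintro _ ⟨l, rfl⟩
        · by_cases h : l = j
          · subst h; simp only [z', Function.update_self]
            exact add_mem (Algebra.subset_adjoin ⟨l, rfl⟩) (Subalgebra.smul_mem _ (pow_mem (Algebra.subset_adjoin (Set.mem_range_self i)) _) _)
          · exact Algebra.subset_adjoin ⟨l, by simp [z', Function.update, h]⟩
        · by_cases h : l = j
          · subst h
            have e : z l = z' l - c • z' i ^ p ^ δ := by simp [z', Function.update, hji.symm]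
            rw [e]
            exact sub_mem (Algebra.subset_adjoin ⟨l, rfl⟩) (Subalgebra.smul_mem _ (pow_mem (Algebra.subset_adjoin (Set.mem_range_self i)) _) _)
          · exact Algebra.subset_adjoin ⟨l, by simp [z', Function.update, h]⟩
      let b : Fin (Nat.find hex) → ℕ → k := Function.update a i fun e =>
        a i e - if δ ≤ e then a j (e - δ) * c ^ p ^ (e - δ) else 0
      have hb : b i (N i - 1) = 0 := by
        simp only [b, Function.update_self]
        rw [if_pos (by omega), show N i - 1 - δ = N j - 1 by omega, hc,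
          mul_div_cancel₀ _ (htop j hNj), sub_self]
      let N' := Function.update N i (N i - 1)
      have hlt : ∑ l, N' l < M := hM ▸ Finset.sum_lt_sum
        (fun l _ => by by_cases h : l = i <;> simp [N', Function.update, h])
        ⟨i, Finset.mem_univ _, by simp [N']; omega⟩
      have hrel' : ∑ l, ∑ e ∈ Finset.range (N' l), b l e • z' l ^ p ^ e = 0 := by
        haveI : CharP A p := charP_of_injective_algebraMap (algebraMap k A).injective p
        have hold : ∀ (f : Fin (Nat.find hex) → A),
            ∑ l, f l = f i + (f j + ∑ l ∈ (Finset.univ.erase i).erase j, f l) := fun f => by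
          rw [Finset.add_sum_erase _ _ (Finset.mem_erase.2 ⟨hji, Finset.mem_univ j⟩),
            Finset.add_sum_erase _ _ (Finset.mem_univ i)]
        rw [hold] at hrel ⊢
        have hrest : ∑ l ∈ (Finset.univ.erase i).erase j, ∑ e ∈ Finset.range (N' l), b l e • z' l ^ p ^ e =
            ∑ l ∈ (Finset.univ.erase i).erase j, ∑ e ∈ Finset.range (N l), a l e • z l ^ p ^ e :=
          Finset.sum_congr rfl fun l hl => by
            obtain ⟨h1, h2, -⟩ := Finset.mem_erase.1 hl |>.imp id Finset.mem_erase.1
            simp [N', b, z', Function.update, h1, h2]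
        have hi' : ∑ e ∈ Finset.range (N' i), b i e • z' i ^ p ^ e =
            ∑ e ∈ Finset.range (N i), a i e • z i ^ p ^ e -
              ∑ e ∈ Finset.range (N j), (a j e * c ^ p ^ e) • z i ^ p ^ (δ + e) := by
          have hzi : z' i = z i := by simp [z', Function.update, hji.symm]
          calc _ = ∑ e ∈ Finset.range (N i), b i e • z i ^ p ^ e := by
                conv_rhs => rw [show N i = (N i - 1) + 1 by omega, Finset.sum_range_succ, hb, zero_smul, add_zero]
                simp [N', hzi]
            _ = _ := by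
              simp only [b, Function.update_self, sub_smul, Finset.sum_sub_distrib]
              congr 1
              rw [show N i = δ + N j by omega, Finset.sum_range_add, Finset.sum_eq_zero (s := Finset.range δ), zero_add]
              · exact Finset.sum_congr rfl fun e _ => by rw [if_pos (Nat.le_add_right _ _), Nat.add_sub_cancel_left]
              · exact fun e he => by rw [if_neg (by simp at he; omega), zero_smul]
        have hj' : ∑ e ∈ Finset.range (N' j), b j e • z' j ^ p ^ e =
            ∑ e ∈ Finset.range (N j), a j e • z j ^ p ^ e +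
              ∑ e ∈ Finset.range (N j), (a j e * c ^ p ^ e) • z i ^ p ^ (δ + e) := by
          rw [← Finset.sum_add_distrib, show N' j = N j by simp [N', Function.update, hji]]
          refine Finset.sum_congr rfl fun e _ => ?_
          simp only [b, z', Function.update_self, Function.update_of_ne hji]
          rw [add_pow_char_pow, smul_add, smul_pow, smul_smul, ← pow_mul, ← pow_add]
        rw [hrest, hi', hj']
        linear_combination hrel
      have := ih _ hlt z' hz' hgen' N' b rfl hrel' j (N j - 1) (by simp [N', Function.update, hji]; omega)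
      simp only [b, Function.update_of_ne hji] at this
      exact htop j hNj this
    · push Not at hj
      have hone : ∑ e ∈ Finset.range (N i), a i e • z i ^ p ^ e = 0 := by
        refine Eq.trans ?_ hrel
        rw [Finset.sum_eq_single i (fun l _ hl => by rw [Nat.le_zero.1 (hj l hl), Finset.range_zero, Finset.sum_empty])
          (fun h => absurd (Finset.mem_univ i) h)]
      have halg : IsAlgebraic k (z i) := by
        refine ⟨∑ e ∈ Finset.range (N i), Polynomial.C (a i e) * Polynomial.X ^ p ^ e, fun h0 => ?_, ?_⟩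
        · have h1 := congrArg (Polynomial.coeff · (p ^ (N i - 1))) h0
          simp only [Polynomial.finsetSum_coeff, Polynomial.coeff_C_mul, Polynomial.coeff_X_pow, Polynomial.coeff_zero] at h1
          rw [Finset.sum_eq_single (N i - 1) (fun e _ hne => by
            rw [if_neg fun h => hne (Nat.pow_right_injective hp.out.two_le h).symm, mul_zero])
            (fun h => absurd (Finset.mem_range.2 (by omega)) h), if_pos rfl, mul_one] at h1
          exact htop i hNi h1
        · simpa [map_sum, Algebra.smul_def] using hone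
      have hint : IsIntegral k (z i) := halg.isIntegral
      obtain ⟨c, hc⟩ := (minpoly.degree_eq_one_iff (A := k)).1
        (IsAlgClosed.degree_eq_one_of_irreducible k (minpoly.irreducible hint))
      have hzi : z i = 0 := by
        have h1 := counit_of_isPrim (hz i)
        rw [← hc] at h1
        change Bialgebra.counitAlgHom k A (algebraMap k A c) = 0 at h1
        rw [AlgHom.commutes] at h1
        simp only [Algebra.algebraMap_self, RingHom.id_apply] at h1
        rw [← hc, h1, map_zero]
      obtain ⟨n', hn'⟩ : ∃ n', Nat.find hex = n' + 1 := ⟨Nat.find hex - 1, by have := i.2; omega⟩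
      let z₁ : Fin n' → A := fun l => z (Fin.cast hn'.symm ((Fin.cast hn' i).succAbove l))
      refine Nat.find_min hex (show n' < Nat.find hex by omega) ⟨z₁, fun l => hz _, ?_⟩
      rw [← hgen]
      refine le_antisymm (Algebra.adjoin_mono (Set.range_comp_subset_range _ z)) (Algebra.adjoin_le ?_)
      rintro _ ⟨l, rfl⟩
      by_cases hl : l = i
      · subst hl; rw [hzi]; exact zero_mem _
      · obtain ⟨l', hl'⟩ := Fin.exists_succAbove_eq (show Fin.cast hn' l ≠ Fin.cast hn' i from
          fun e => hl (Fin.cast_injective hn' e))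
        exact Algebra.subset_adjoin ⟨l', by simp [z₁, hl']⟩

end Groth.Agent.UniStr23
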