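import Groth.Agent.Lib.WittExt23.Apps
import Mathlib.CategoryTheory.Limits.Shapes.Products

/-!
# Finite products of Witt groups and their symmetric cocycles

`WP p k r nn`, `proj`, `mkP`, `isLimitWP`; `decomp`: cocycles on a product; `classify_WP`: symmetric cocycles on a product of
Witt groups with values in `W_1`; `cn_split`: a twisted carry becomes a coboundary after the shift.
-/

set_option autoImplicit false
set_option linter.style.haveILetI false
set_option backward.isDefEq.respectTransparency.types false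

universe u

open CategoryTheory AlgebraicGeometry MonObj MonoidalCategory CartesianMonoidalCategory Limits
open Groth.Agent.WittHom23 Groth.Agent.WittExt23

noncomputable section

namespace Groth.Agent.UniStr23

variable (p : ℕ) [hp : Fact p.Prime] (k : Type u) [Field k] [CharP k p]

/-- A product of Witt groups. -/
def WP : ∀ r, (Fin r → ℕ) → Over (Spec (B k))
  | 0, _ => 𝟙_ _
  | r + 1, nn => Wk p k (nn 0) ⊗ WP r (Fin.tail nn)

/-- Its group structure. -/
@[instance] def grpWP : ∀ r nn, GrpObj (WP p k r nn)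
  | 0, _ => inferInstanceAs (GrpObj (𝟙_ (Over (Spec (B k)))))
  | r + 1, nn =>
    letI := grpWP r (Fin.tail nn)
    inferInstanceAs (GrpObj (Wk p k (nn 0) ⊗ WP p k r (Fin.tail nn)))

instance commWP : ∀ r nn, IsCommMonObj (WP p k r nn)
  | 0, _ => inferInstanceAs (IsCommMonObj (𝟙_ (Over (Spec (B k)))))
  | r + 1, nn =>
    haveI := commWP r (Fin.tail nn)
    inferInstanceAs (IsCommMonObj (Wk p k (nn 0) ⊗ WP p k r (Fin.tail nn)))

/-- The projections. -/
def proj : ∀ r nn (i : Fin r), WP p k r nn ⟶ Wk p k (nn i)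
  | 0, _, i => i.elim0
  | r + 1, nn, i => Fin.cases (motive := fun i => WP p k (r + 1) nn ⟶ Wk p k (nn i)) (fst _ _)
      (fun i => snd (Wk p k (nn 0)) (WP p k r (Fin.tail nn)) ≫ proj r (Fin.tail nn) i) i

variable {p k}

theorem isMonHom_fst' {X Y : Over (Spec (B k))} [GrpObj X] [GrpObj Y] : IsMonHom (fst X Y) := inferInstance

instance isMonHom_proj : ∀ r nn (i : Fin r), IsMonHom (proj p k r nn i)
  | 0, _, i => i.elim0
  | r + 1, nn, i => by
    refine Fin.cases ?_ (fun j => ?_) i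
    · exact inferInstanceAs (IsMonHom (fst (Wk p k (nn 0)) (WP p k r (Fin.tail nn))))
    · haveI := isMonHom_proj r (Fin.tail nn) j
      exact inferInstanceAs (IsMonHom (snd (Wk p k (nn 0)) (WP p k r (Fin.tail nn)) ≫ proj p k r (Fin.tail nn) j))

/-- Morphisms into the product. -/
def mkP {T : Over (Spec (B k))} : ∀ r nn, (∀ i : Fin r, T ⟶ Wk p k (nn i)) → (T ⟶ WP p k r nn)
  | 0, _, _ => toUnit _
  | r + 1, nn, x => lift (x 0) (mkP r (Fin.tail nn) fun i => x i.succ)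

theorem mkP_proj {T : Over (Spec (B k))} : ∀ r nn (x : ∀ i : Fin r, T ⟶ Wk p k (nn i)) (i : Fin r),
    mkP r nn x ≫ proj p k r nn i = x i
  | 0, _, _, i => i.elim0
  | r + 1, nn, x, i => by
    refine Fin.cases ?_ (fun j => ?_) i
    · exact lift_fst _ _
    · show lift _ _ ≫ snd (Wk p k (nn 0)) (WP p k r (Fin.tail nn)) ≫ proj p k r (Fin.tail nn) j = _
      rw [lift_snd_assoc, mkP_proj r]

theorem WP_ext {T : Over (Spec (B k))} : ∀ {r nn} {a b : T ⟶ WP p k r nn},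
    (∀ i, a ≫ proj p k r nn i = b ≫ proj p k r nn i) → a = b
  | 0, _, _, _, _ => toUnit_unique _ _
  | r + 1, nn, a, b, h => CartesianMonoidalCategory.hom_ext _ _ (h 0) (WP_ext fun i => by
      simp only [Category.assoc]
      exact h i.succ)

theorem isMonHom_mkP {X : Over (Spec (B k))} [GrpObj X] {r : ℕ} {nn : Fin r → ℕ}
    (x : ∀ i : Fin r, X ⟶ Wk p k (nn i)) [∀ i, IsMonHom (x i)] : IsMonHom (mkP r nn x) := by
  refine WittGrp.isMonHom_of_comp_mul _ (WP_ext fun i => ?_) fun T a b => WP_ext fun i => ?_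
  · rw [Category.assoc, mkP_proj, MonObj.one_comp, MonObj.one_comp]
  · simp only [MonObj.mul_comp, Category.assoc, mkP_proj]

/-- The product is a product. -/
def isLimitWP (r : ℕ) (nn : Fin r → ℕ) : IsLimit (Fan.mk (WP p k r nn) (proj p k r nn)) :=
  Fan.IsLimit.mk _ (fun s => mkP r nn s.proj) (fun s i => mkP_proj r nn _ i)
    fun s m h => WP_ext fun i => (h i).trans (mkP_proj r nn _ i).symm

/-- A symmetric cocycle on a product splits. -/
theorem decomp {X Y Z : Over (Spec (B k))} [GrpObj X] [IsCommMonObj X] [GrpObj Y] [IsCommMonObj Y] [GrpObj Z]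
    [IsCommMonObj Z] (f : (X ⊗ Y) ⊗ (X ⊗ Y) ⟶ Z) (hf : IsSymCoc f) :
    ∃ (f1 : X ⊗ X ⟶ Z) (f2 : Y ⊗ Y ⟶ Z) (g : X ⊗ Y ⟶ Z), IsSymCoc f1 ∧ IsSymCoc f2 ∧
      f = pb (fst X Y) f1 * pb (snd X Y) f2 * cob g := by
  let inl : X ⟶ X ⊗ Y := lift (𝟙 X) 1
  let inr : Y ⟶ X ⊗ Y := lift 1 (𝟙 Y)
  have hfst : inl ≫ fst X Y = 𝟙 X := lift_fst _ _
  haveI : IsMonHom inl := WittGrp.isMonHom_of_comp_mul _
    (CartesianMonoidalCategory.hom_ext _ _
      (by simp [inl, MonObj.one_comp]) (by simp [inl, MonObj.one_comp]))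
    fun T a b => CartesianMonoidalCategory.hom_ext _ _
      (by simp [inl, MonObj.mul_comp]) (by simp [inl, MonObj.mul_comp])
  haveI : IsMonHom inr := WittGrp.isMonHom_of_comp_mul _
    (CartesianMonoidalCategory.hom_ext _ _
      (by simp [inr, MonObj.one_comp]) (by simp [inr, MonObj.one_comp]))
    fun T a b => CartesianMonoidalCategory.hom_ext _ _
      (by simp [inr, MonObj.mul_comp]) (by simp [inr, MonObj.mul_comp])
  refine ⟨pb inl f, pb inr f, (lift (fst X Y ≫ inl) (snd X Y ≫ inr) ≫ f)⁻¹, hf.pb inl, hf.pb inr,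
    pair_ext fun {T} z z' => ?_⟩
  have hsplit : ∀ w : T ⟶ X ⊗ Y, (w ≫ fst X Y ≫ inl) * (w ≫ snd X Y ≫ inr) = w := fun w =>
    CartesianMonoidalCategory.hom_ext _ _
      (by simp [inl, inr, MonObj.mul_comp, MonObj.comp_one])
      (by simp [inl, inr, MonObj.mul_comp, MonObj.comp_one])
  have hmul : (z * z') ≫ fst X Y ≫ inl = (z ≫ fst X Y ≫ inl) * (z' ≫ fst X Y ≫ inl) := MonObj.mul_comp _ _ _
  have hmul' : (z * z') ≫ snd X Y ≫ inr = (z ≫ snd X Y ≫ inr) * (z' ≫ snd X Y ≫ inr) := MonObj.mul_comp _ _ _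
  simp only [MonObj.comp_mul, lift_pb, lift_cob, dl, GrpObj.comp_inv, inv_inv, ← Category.assoc, comp_lift, lift_fst_assoc,
    lift_snd_assoc]
  simp only [Category.assoc, comp_lift, hmul, hmul']
  conv_lhs => rw [← hsplit z, ← hsplit z']
  have h1 := hf.coc (z ≫ fst X Y ≫ inl) (z ≫ snd X Y ≫ inr) ((z' ≫ fst X Y ≫ inl) * (z' ≫ snd X Y ≫ inr))
  have h2 := hf.coc (z ≫ fst X Y ≫ inl) (z' ≫ fst X Y ≫ inl) ((z ≫ snd X Y ≫ inr) * (z' ≫ snd X Y ≫ inr))
  have h3 := hf.coc (z ≫ snd X Y ≫ inr) (z' ≫ snd X Y ≫ inr) (z' ≫ fst X Y ≫ inl)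
  rw [hf.symm (z' ≫ snd X Y ≫ inr) (z' ≫ fst X Y ≫ inl),
    _root_.mul_comm (z' ≫ snd X Y ≫ inr) (z' ≫ fst X Y ≫ inl), hf.symm _ (z' ≫ fst X Y ≫ inl)] at h3
  generalize z ≫ fst X Y ≫ inl = u at *
  generalize z ≫ snd X Y ≫ inr = v at *
  generalize z' ≫ fst X Y ≫ inl = u' at *
  generalize z' ≫ snd X Y ≫ inr = v' at *
  rw [_root_.mul_left_comm v u' v'] at *
  generalize lift (u * v) (u' * v') ≫ f = A at *
  generalize lift u v ≫ f = a1 at *
  generalize lift u' v' ≫ f = a2 at *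
  generalize lift (u * u') (v * v') ≫ f = a3 at *
  generalize lift u u' ≫ f = b1 at *
  generalize lift v v' ≫ f = b2 at *
  apply Additive.ofMul.injective
  have e1 := congrArg Additive.ofMul h1
  have e2 := congrArg Additive.ofMul h2
  have e3 := congrArg Additive.ofMul h3
  simp only [ofMul_mul, ofMul_inv] at e1 e2 e3 ⊢
  linear_combination (norm := abel) e1 - e2 - e3

variable [IsAlgClosed k]

theorem classify_cn' : ∀ (n : ℕ) (f : Wk p k n ⊗ Wk p k n ⟶ Wk p k 1), IsSymCoc f →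
    ∃ (s : Finset ℕ) (a : ℕ → k) (g : Wk p k n ⟶ Wk p k 1), f = (cn p k n ≫ L p k 1 s a) * cob g
  | 0, f, hf => by
    refine ⟨∅, 0, toUnit _ ≫ lift (1 : 𝟙_ _ ⟶ Wk p k 0) 1 ≫ f, pair_ext fun x y => ?_⟩
    have h0 : ∀ {T : Over (Spec (B k))} (w : T ⟶ Wk p k 0), w = 1 := fun w =>
      vec_injective (TruncatedWittVector.ext fun i => i.elim0)
    have hL : L p k 1 (∅ : Finset ℕ) (0 : ℕ → k) = 1 := hd_injective (by
      rw [← Category.id_comp (L p k 1 ∅ 0), hd_L, Finset.sum_empty]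
      simp [hd, vec_one])
    rw [h0 x, h0 y, MonObj.comp_mul, hL, MonObj.comp_one, MonObj.comp_one, _root_.one_mul, lift_cob, dl,
      _root_.one_mul, mul_inv_cancel_right, ← Category.assoc, toUnit_unique ((1 : _ ⟶ Wk p k 0) ≫ toUnit _) (toUnit _),
      ← Category.assoc, comp_lift, MonObj.comp_one]
  | n + 1, f, hf => classify_cn n f hf

/-- Symmetric cocycles on a product of Witt groups with values in the additive group. -/
theorem classify_WP : ∀ (r : ℕ) (nn : Fin r → ℕ) (f : WP p k r nn ⊗ WP p k r nn ⟶ Wk p k 1), IsSymCoc f →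
    ∃ (s : Fin r → Finset ℕ) (a : Fin r → ℕ → k) (g : WP p k r nn ⟶ Wk p k 1),
      f = (∏ j, pb (proj p k r nn j) (cn p k (nn j) ≫ L p k 1 (s j) (a j))) * cob g
  | 0, nn, f, hf => by
    refine ⟨Fin.elim0, Fin.elim0, lift (𝟙 _) (𝟙 _) ≫ f, pair_ext fun x y => ?_⟩
    rw [Fin.prod_univ_zero, _root_.one_mul, lift_cob, dl,
      show y = x from toUnit_unique _ _, show x * x = x from toUnit_unique _ _, mul_inv_cancel_right, ← Category.assoc,
      comp_lift, Category.comp_id]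
  | r + 1, nn, f, hf => by
    obtain ⟨f1, f2, g0, hf1, hf2, rfl⟩ := decomp (X := Wk p k (nn 0)) (Y := WP p k r (Fin.tail nn)) f hf
    obtain ⟨s1, a1, g1, rfl⟩ := classify_cn' (nn 0) f1 hf1
    obtain ⟨s2, a2, g2, rfl⟩ := classify_WP r (Fin.tail nn) f2 hf2
    let P1 := fst (Wk p k (nn 0)) (WP p k r (Fin.tail nn))
    let P2 := snd (Wk p k (nn 0)) (WP p k r (Fin.tail nn))
    refine ⟨Fin.cons s1 s2, Fin.cons a1 a2, (P1 ≫ g1) * (P2 ≫ g2) * g0, ?_⟩
    have hcob : ∀ {X' X : Over (Spec (B k))} [GrpObj X] [GrpObj X'] (h : X' ⟶ X) [IsMonHom h] (g : X ⟶ Wk p k 1),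
        pb h (cob g) = cob (h ≫ g) := fun h _ g => pair_ext fun x y => by rw [lift_pb, lift_cob, lift_cob, dl_comp_left]
    have hpb : ∀ {X' X : Over (Spec (B k))} (h : X' ⟶ X) (F F' : X ⊗ X ⟶ Wk p k 1), pb h (F * F') = pb h F * pb h F' :=
      fun h F F' => MonObj.comp_mul _ _ _
    have hpbpb : ∀ {X'' X' X : Over (Spec (B k))} (h : X'' ⟶ X') (h' : X' ⟶ X) (F : X ⊗ X ⟶ Wk p k 1),
        pb h (pb h' F) = pb (h ≫ h') F := fun h h' F => pair_ext fun x y => by
      rw [lift_pb, lift_pb, lift_pb, Category.assoc, Category.assoc]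
    have hprod : ∀ (F : Fin r → (WP p k r (Fin.tail nn) ⊗ WP p k r (Fin.tail nn) ⟶ Wk p k 1)),
        pb P2 (∏ j, F j) = ∏ j, pb P2 (F j) := fun F =>
      map_prod (MonoidHom.mk' (fun F => pb P2 F) fun a b => hpb P2 a b) F Finset.univ
    have hmulcob : ∀ g g' : Wk p k (nn 0) ⊗ WP p k r (Fin.tail nn) ⟶ Wk p k 1, cob (g * g') = cob g * cob g' :=
      fun g g' => dl_mul g g' _ _
    have key : pb P1 ((cn p k (nn 0) ≫ L p k 1 s1 a1) * cob g1) *
        pb P2 ((∏ j, pb (proj p k r (Fin.tail nn) j) (cn p k (Fin.tail nn j) ≫ L p k 1 (s2 j) (a2 j))) * cob g2) * cob g0 =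
      (pb P1 (cn p k (nn 0) ≫ L p k 1 s1 a1) *
        ∏ j, pb (P2 ≫ proj p k r (Fin.tail nn) j) (cn p k (Fin.tail nn j) ≫ L p k 1 (s2 j) (a2 j))) *
      cob ((P1 ≫ g1) * (P2 ≫ g2) * g0) := by
      rw [hmulcob, hmulcob, hpb, hpb, hprod, hcob P1 g1, hcob P2 g2]
      simp only [hpbpb]
      ac_rfl
    refine key.trans ?_
    rw [Fin.prod_univ_succ]
    rfl

/-- A twisted carry becomes a coboundary after the shift. -/
theorem cn_split (n : ℕ) (s : Finset ℕ) (a : ℕ → k) : ∃ b : ℕ → k, ∀ {T : Over (Spec (B k))} (x y : T ⟶ Wk p k n),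
    (lift x y ≫ cn p k n ≫ L p k 1 s a) ≫ WittGrp.V p (Spec (B k)) (Nat.le_add_left 1 n) =
      dl (pad p k n ≫ L p k (n + 1) s b) x y := by
  choose b hb using fun j => exists_root (p := p) (k := k) (n + 1 - 1) (a j)
  have hV := lift_comp_V p (B k) (natCast_base p k) s a b (Nat.le_add_left 1 n) fun j _ => hb j
  refine ⟨b, fun {T} x y => ?_⟩
  rw [← dl_comp, ← cn_spec]
  simp only [Category.assoc]
  rw [← hV]

end Groth.Agent.UniStr23
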