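import Groth.Agent.Lib.UniStr23.Tensor
import Groth.Agent.Lib.UniStr23.Vec
import Groth.Agent.Lib.UniStr23.WP
import Groth.Agent.Lib.HopfPts19.Basic
import Groth.Agent.Lib.UnipPow23.Torus

/-!
# Connected commutative unipotent groups killed by `p` are vector groups
-/

set_option autoImplicit false
set_option linter.style.haveILetI false
set_option backward.isDefEq.respectTransparency.types false
set_option maxSynthPendingDepth 3
set_option maxHeartbeats 2000000

universe u

open CategoryTheory AlgebraicGeometry MonObj MonoidalCategory CartesianMonoidalCategory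
open Groth.Agent.WittHom23 Groth.Agent.WittExt23
open scoped TensorProduct

noncomputable section

namespace Groth.Agent.UniStr23

variable {p : ℕ} [hp : Fact p.Prime] {k : Type u} [Field k] [CharP k p]
variable {A : Type u} [CommRing A] [HopfAlgebra k A]

/-- The constant family of lengths one. -/
abbrev one' (n : ℕ) : Fin n → ℕ := fun _ => 1

variable (p) in
/-- The morphism to the vector group given by a family of elements. -/
def toVec {n : ℕ} (z : Fin n → A) : CoactBr.sp k A ⟶ WP p k n (one' n) :=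
  mkP n (one' n) fun i => wpt (k := k) p (z i)

theorem isMonHom_toVec {n : ℕ} {z : Fin n → A} (hz : ∀ i, Unip23.IsPrim (k := k) (z i)) :
    IsMonHom (toVec (k := k) p z) := by
  haveI := fun i => isMonHom_wpt (p := p) (hz i)
  exact isMonHom_mkP _

theorem isIso_toVec {n : ℕ} {z : Fin n → A} (hindep : AlgebraicIndependent k z)
    (hgen : Algebra.adjoin k (Set.range z) = ⊤) : IsIso (toVec (k := k) p z) := by
  let e : MvPolynomial (Fin n) k ≃ₐ[k] A := AlgEquiv.ofBijective (MvPolynomial.aeval z)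
    ⟨hindep, fun a => by
      have h : a ∈ (MvPolynomial.aeval z : MvPolynomial (Fin n) k →ₐ[k] A).range := by
        rw [← Algebra.adjoin_range_eq_range_aeval, hgen]; trivial
      exact h⟩
  let Q := WP p k n (one' n)
  let ψ : MvPolynomial (Fin n) k →+* Γ(Q.left, ⊤) :=
    MvPolynomial.eval₂Hom (DiagGL.alg Q) fun i => hd (proj p k n (one' n) i)
  let σ : Q ⟶ CoactBr.sp k A := DiagGL.mk (ψ.comp e.symm.toRingEquiv.toRingHom) fun r => by
    show ψ (e.symm (algebraMap k A r)) = _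
    rw [AlgEquiv.commutes]
    exact MvPolynomial.eval₂Hom_C _ _ r
  have hσ : ∀ i, DiagGL.ev σ (z i) = hd (proj p k n (one' n) i) := fun i => by
    rw [DiagGL.ev_mk]
    show ψ (e.symm (z i)) = _
    rw [show e.symm (z i) = MvPolynomial.X i from e.injective (by
      rw [e.apply_symm_apply]; exact (MvPolynomial.aeval_X z i).symm)]
    exact MvPolynomial.eval₂Hom_X' _ _ i
  refine ⟨σ, ?_, WP_ext fun i => hd_injective ?_⟩
  · refine DiagGL.ev_injective fun a => ?_
    have hmem : a ∈ Algebra.adjoin k (Set.range z) := hgen ▸ Algebra.mem_top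
    induction hmem using Algebra.adjoin_induction with
    | algebraMap r => rw [DiagGL.ev_algebraMap, DiagGL.ev_algebraMap]
    | add x y _ _ hx hy => rw [map_add, map_add, hx, hy]
    | mul x y _ _ hx hy => rw [map_mul, map_mul, hx, hy]
    | mem x hx =>
      obtain ⟨i, rfl⟩ := hx
      rw [DiagGL.ev_comp, hσ, ← hd_comp, toVec, mkP_proj, hd_wpt, ev_id]
  · rw [Category.assoc, toVec, mkP_proj, hd_comp_wpt, hσ, Category.id_comp]

theorem adjoin_prim_finset {a : A} (ha : a ∈ Algebra.adjoin k {x : A | Unip23.IsPrim (k := k) x}) :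
    ∃ t : Finset A, (∀ y ∈ t, Unip23.IsPrim (k := k) y) ∧ a ∈ Algebra.adjoin k (t : Set A) := by
  classical
  induction ha using Algebra.adjoin_induction with
  | mem x hx => exact ⟨{x}, by simpa using hx, Algebra.subset_adjoin (by simp)⟩
  | algebraMap r => exact ⟨∅, by simp, Subalgebra.algebraMap_mem _ r⟩
  | add x y _ _ hx hy =>
    obtain ⟨t, ht, hx⟩ := hx; obtain ⟨t', ht', hy⟩ := hy
    exact ⟨t ∪ t', fun z hz => (Finset.mem_union.1 hz).elim (ht z) (ht' z),
      add_mem (Algebra.adjoin_mono (Finset.coe_subset.2 Finset.subset_union_left) hx)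
        (Algebra.adjoin_mono (Finset.coe_subset.2 Finset.subset_union_right) hy)⟩
  | mul x y _ _ hx hy =>
    obtain ⟨t, ht, hx⟩ := hx; obtain ⟨t', ht', hy⟩ := hy
    exact ⟨t ∪ t', fun z hz => (Finset.mem_union.1 hz).elim (ht z) (ht' z),
      mul_mem (Algebra.adjoin_mono (Finset.coe_subset.2 Finset.subset_union_left) hx)
        (Algebra.adjoin_mono (Finset.coe_subset.2 Finset.subset_union_right) hy)⟩

theorem isSub_adjoin_prim {s : Set A} (hs : ∀ x ∈ s, Unip23.IsPrim (k := k) x) :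
    HopfPts19.IsSub (Algebra.adjoin k s) := by
  let T := Algebra.adjoin k s
  constructor
  · intro b hb
    have : T ≤ (Algebra.TensorProduct.map T.val T.val).range.comap (Bialgebra.comulAlgHom k A) :=
      Algebra.adjoin_le fun x hx =>
        ⟨⟨x, Algebra.subset_adjoin hx⟩ ⊗ₜ 1 + 1 ⊗ₜ ⟨x, Algebra.subset_adjoin hx⟩, by
          show Algebra.TensorProduct.map T.val T.val _ = CoalgebraStruct.comul (R := k) x
          rw [map_add, show CoalgebraStruct.comul (R := k) x = _ from hs x hx]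
          simp⟩
    obtain ⟨w, hw⟩ := this hb
    exact ⟨w, hw⟩
  · intro b hb
    have : T ≤ T.comap (HopfAlgebra.antipodeAlgHom k A) := Algebra.adjoin_le fun x hx => by
      show HopfAlgebra.antipode k x ∈ T
      rw [Unip23.antipode_of_isPrim (hs x hx)]
      exact neg_mem (Algebra.subset_adjoin hx)
    exact this hb

variable [IsAlgClosed k] [IsDomain A] [Coalgebra.IsCocomm k A]

theorem reduced_gl : IsReduced Γ((CoactBr.sp k A).left, ⊤) :=
  isReduced_of_injective (RingEquiv.ofBijective _ (gl_bijective (k := k) (A := A))).symm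
    (RingEquiv.ofBijective _ (gl_bijective (k := k) (A := A))).symm.injective

/-- The descended cocycle. -/
theorem exists_cocycle_quot {B : Type u} [CommRing B] [HopfAlgebra k B] [Coalgebra.IsCocomm k B] (φ : B →ₐc[k] A)
    (hφ : Function.Injective φ) (x : A) (w : B ⊗[k] B)
    (hw : Algebra.TensorProduct.map (φ : B →ₐ[k] A) (φ : B →ₐ[k] A) w =
      x ⊗ₜ[k] 1 + 1 ⊗ₜ[k] x - CoalgebraStruct.comul (R := k) x) :
    ∃ fq : CoactBr.sp k B ⊗ CoactBr.sp k B ⟶ Wk p k 1, IsSymCoc fq ∧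
      ∀ {T : Over (Spec (CommRingCat.of k))} (u v : T ⟶ CoactBr.sp k A),
        lift (u ≫ CoactBr.pt (φ : B →ₐ[k] A)) (v ≫ CoactBr.pt (φ : B →ₐ[k] A)) ≫ fq = dl (wpt (k := k) p x) u v := by
  let π : CoactBr.sp k A ⟶ CoactBr.sp k B := CoactBr.pt (φ : B →ₐ[k] A)
  haveI hπ : IsMonHom π := ((hopfSpec (CommRingCat.of k)).map (CommHopfAlgCat.ofHom φ).op).hom.isMonHom_hom
  let fq : CoactBr.sp k B ⊗ CoactBr.sp k B ⟶ Wk p k 1 := (prodIso B B).inv ≫ wpt (k := k) p w
  have hfq : ∀ {T : Over (Spec (CommRingCat.of k))} (u v : T ⟶ CoactBr.sp k A),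
      lift (u ≫ π) (v ≫ π) ≫ fq = dl (wpt (k := k) p x) u v := by
    have huniv : (π ⊗ₘ π) ≫ fq = dl (wpt (k := k) p x) (fst _ _) (snd _ _) := by
      rw [← cancel_epi (prodIso A A).hom, ← Category.assoc, prodIso_hom_naturality, Category.assoc,
        show fq = (prodIso B B).inv ≫ wpt (k := k) p w from rfl, Iso.hom_inv_id_assoc, pt_comp_wpt, hw]
      refine hd_injective ?_
      rw [comp_dl, show (prodIso A A).hom = prodHom A A from rfl, prodHom, lift_fst, lift_snd, dl, pt_inl_mul_pt_inr,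
        hd_mul, hd_mul, hd_inv, hd_comp_wpt, hd_comp_wpt, hd_comp_wpt, ev_pt', ev_pt', ev_pt', hd_wpt, map_sub, map_add]
      exact sub_eq_add_neg _ _
    intro T u v
    rw [show lift (u ≫ π) (v ≫ π) = lift u v ≫ (π ⊗ₘ π) by rw [lift_map], Category.assoc, huniv, comp_dl, lift_fst,
      lift_snd]
  have hsym : IsSymCoc fq := by
    constructor
    · intro T a b
      have key : lift (fst (CoactBr.sp k B) (CoactBr.sp k B)) (snd _ _) ≫ fq = lift (snd _ _) (fst _ _) ≫ fq := by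
        refine cancel_pt₂ (f := (φ : B →ₐ[k] A)) hφ (g := (φ : B →ₐ[k] A)) hφ ?_
        rw [comp_lift_assoc, comp_lift_assoc, tensorHom_fst, tensorHom_snd, hfq, hfq, dl, dl,
          _root_.mul_comm (fst _ _ ≫ wpt (k := k) p x), _root_.mul_comm (fst (CoactBr.sp k A) (CoactBr.sp k A))]
      have h2 := congrArg (fun t => lift a b ≫ t) key
      simpa [← Category.assoc, comp_lift] using h2
    · intro T a b c
      let Q := CoactBr.sp k B
      let q1 : Q ⊗ (Q ⊗ Q) ⟶ Q := fst _ _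
      let q2 : Q ⊗ (Q ⊗ Q) ⟶ Q := snd _ _ ≫ fst _ _
      let q3 : Q ⊗ (Q ⊗ Q) ⟶ Q := snd _ _ ≫ snd _ _
      have key : (lift q1 q2 ≫ fq) * (lift (q1 * q2) q3 ≫ fq) = (lift q1 (q2 * q3) ≫ fq) * (lift q2 q3 ≫ fq) := by
        refine cancel_pt₃ (f := (φ : B →ₐ[k] A)) hφ ?_
        let P := CoactBr.sp k A
        have e1 : (π ⊗ₘ (π ⊗ₘ π)) ≫ q1 = fst P (P ⊗ P) ≫ π := tensorHom_fst _ _
        have e2 : (π ⊗ₘ (π ⊗ₘ π)) ≫ q2 = (snd P (P ⊗ P) ≫ fst P P) ≫ π := by
          rw [← Category.assoc, tensorHom_snd, Category.assoc, tensorHom_fst, Category.assoc]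
        have e3 : (π ⊗ₘ (π ⊗ₘ π)) ≫ q3 = (snd P (P ⊗ P) ≫ snd P P) ≫ π := by
          rw [← Category.assoc, tensorHom_snd, Category.assoc, tensorHom_snd, Category.assoc]
        show (π ⊗ₘ (π ⊗ₘ π)) ≫ _ = (π ⊗ₘ (π ⊗ₘ π)) ≫ _
        simp only [MonObj.comp_mul, comp_lift_assoc, e1, e2, e3, ← MonObj.mul_comp, hfq]
        generalize fst P (P ⊗ P) = u
        generalize snd P (P ⊗ P) ≫ fst P P = v
        generalize snd P (P ⊗ P) ≫ snd P P = w'
        simp only [dl, _root_.mul_assoc u v w']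
        generalize u ≫ wpt (k := k) p x = s1; generalize v ≫ wpt (k := k) p x = s2
        generalize w' ≫ wpt (k := k) p x = s3; generalize (u * v) ≫ wpt (k := k) p x = s4
        generalize (v * w') ≫ wpt (k := k) p x = s5; generalize (u * (v * w')) ≫ wpt (k := k) p x = s6
        apply Additive.ofMul.injective
        simp only [ofMul_mul, ofMul_inv]
        abel
      have h2 := congrArg (fun t => lift a (lift b c) ≫ t) key
      have p1 : lift a (lift b c) ≫ q1 = a := lift_fst _ _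
      have p2 : lift a (lift b c) ≫ q2 = b := (lift_snd_assoc _ _ _).trans (lift_fst _ _)
      have p3 : lift a (lift b c) ≫ q3 = c := (lift_snd_assoc _ _ _).trans (lift_snd _ _)
      simp only [MonObj.comp_mul, comp_lift_assoc, p1, p2, p3] at h2
      exact h2
  exact ⟨fq, hsym, hfq⟩

/-- A function whose deviation from additivity comes from a vector group quotient lies in its algebra. -/
theorem mem_of_dev (hkill : UnipPow23.powHom (k := k) (A := A) p = 1) {n : ℕ} {B : Type u} [CommRing B]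
    [HopfAlgebra k B] [Coalgebra.IsCocomm k B] (φ : B →ₐc[k] A) (hφ : Function.Injective φ) (z : Fin n → B)
    (hz : ∀ i, Unip23.IsPrim (k := k) (z i)) (hindep : AlgebraicIndependent k z)
    (hgen : Algebra.adjoin k (Set.range z) = ⊤) (x : A) (w : B ⊗[k] B)
    (hw : Algebra.TensorProduct.map (φ : B →ₐ[k] A) (φ : B →ₐ[k] A) w =
      x ⊗ₜ[k] 1 + 1 ⊗ₜ[k] x - CoalgebraStruct.comul (R := k) x) :
    ∃ a, Unip23.IsPrim (k := k) a ∧ x - a ∈ (φ : B →ₐ[k] A).range := by
  let π : CoactBr.sp k A ⟶ CoactBr.sp k B := CoactBr.pt (φ : B →ₐ[k] A)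
  haveI hπ : IsMonHom π := ((hopfSpec (CommRingCat.of k)).map (CommHopfAlgCat.ofHom φ).op).hom.isMonHom_hom
  haveI := isIso_toVec (p := p) hindep hgen
  haveI := isMonHom_toVec (p := p) hz
  let e := toVec (k := k) p z
  haveI : IsMonHom (inv e) := by
    refine WittGrp.isMonHom_of_comp_mul _ ?_ fun T a b => ?_
    · rw [← cancel_mono e, Category.assoc, IsIso.inv_hom_id, Category.comp_id, MonObj.one_comp]
    · rw [← cancel_mono e, Category.assoc, IsIso.inv_hom_id, Category.comp_id, MonObj.mul_comp]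
      simp only [Category.assoc, IsIso.inv_hom_id, Category.comp_id]
  obtain ⟨fq, hsym, hfq⟩ := exists_cocycle_quot (p := p) φ hφ x w hw
  obtain ⟨s, a, g, hg⟩ := classify_WP n (one' n) (pb (inv e) fq) (hsym.pb (inv e))
  choose b hb using fun j => cn_split (p := p) (k := k) 1 (s j) (a j)
  let ρ : CoactBr.sp k A ⟶ WP p k n (one' n) := π ≫ e
  haveI : IsMonHom ρ := inferInstanceAs (IsMonHom (π ≫ e))
  let V := WittGrp.V p (Spec (CommRingCat.of k)) (Nat.le_add_left 1 1)
  let R1 := WittGrp.R p (Spec (CommRingCat.of k)) (Nat.le_add_right 1 1)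
  let F : Fin n → (WP p k n (one' n) ⟶ Wk p k 2) := fun j =>
    proj p k n (one' n) j ≫ pad p k 1 ≫ L p k 2 (s j) (b j)
  let x' : CoactBr.sp k A ⟶ Wk p k 1 := wpt (k := k) p x * (ρ ≫ g)⁻¹
  let h : CoactBr.sp k A ⟶ Wk p k 2 := (x' ≫ V) * (ρ ≫ ∏ j, F j)⁻¹
  have hdl : ∀ {T : Over (Spec (CommRingCat.of k))} (u v : T ⟶ CoactBr.sp k A), dl x' u v =
      ∏ j, lift (u ≫ ρ ≫ proj p k n (one' n) j) (v ≫ ρ ≫ proj p k n (one' n) j) ≫ cn p k 1 ≫ L p k 1 (s j) (a j) := by
    intro T u v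
    have h1 := congrArg (fun t => lift (u ≫ ρ) (v ≫ ρ) ≫ t) hg
    simp only [lift_pb, MonObj.comp_mul, lift_cob] at h1
    rw [show (u ≫ ρ) ≫ inv e = u ≫ π by simp [ρ], show (v ≫ ρ) ≫ inv e = v ≫ π by simp [ρ], hfq] at h1
    rw [dl_mul, dl_inv, dl_comp_left, h1, mul_inv_cancel_right]
    refine (map_prod (MonoidHom.mk' (fun t : (WP p k n (one' n) ⊗ WP p k n (one' n) ⟶ Wk p k 1) => lift (u ≫ ρ) (v ≫ ρ) ≫ t) fun a b => MonObj.comp_mul _ _ _) _
      Finset.univ).trans (Finset.prod_congr rfl fun j _ => ?_)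
    show lift (u ≫ ρ) (v ≫ ρ) ≫ pb _ _ = _
    rw [lift_pb]
    simp only [ρ, Category.assoc]
  haveI hh : IsMonHom h := isMonHom_of_dl _ fun {T} u v => by
    rw [dl_mul, dl_inv, ← dl_comp, hdl, dl_comp_left]
    have hF : dl (∏ j, F j) (u ≫ ρ) (v ≫ ρ) = ∏ j, dl (F j) (u ≫ ρ) (v ≫ ρ) :=
      map_prod (MonoidHom.mk' (fun f => dl f (u ≫ ρ) (v ≫ ρ)) fun a b => dl_mul a b _ _) F Finset.univ
    rw [hF, show ∀ (G : Fin n → (T ⟶ Wk p k 1)), (∏ j, G j) ≫ V = ∏ j, G j ≫ V from fun G =>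
      map_prod (MonoidHom.mk' (fun t => t ≫ V) fun a b => MonObj.mul_comp _ _ _) G Finset.univ,
      mul_inv_eq_one]
    refine Finset.prod_congr rfl fun j _ => ?_
    rw [dl_comp_left, hb]
    simp only [ρ, Category.assoc]
  -- `p` kills `h`
  have hp1 : h ^ p = 1 := by
    have h1 : (𝟙 (CoactBr.sp k A) : CoactBr.sp k A ⟶ CoactBr.sp k A) ^ p = 1 :=
      (UnipPow23.id_pow_eq_one_iff p).2 hkill
    have := congrArg (fun t => t ≫ h) h1
    simpa [MonObj.pow_comp, MonObj.one_comp] using this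
  haveI := reduced_gl (k := k) (A := A)
  have hpv : p • vec h = 0 := by rw [← vec_pow, hp1, vec_one]
  have hhR : h ≫ R1 = 1 := vec_injective (TruncatedWittVector.ext fun i => by
    rw [vec_R, vec_one, TruncatedWittVector.coeff_truncate, TruncatedWittVector.coeff_zero]
    exact coeff_eq_zero_of_nsmul_prime p (WittGrp.natCast_eq_zero_of_over p (natCast_base p k) _) hpv _ (by
      have := i.2; simp <;> omega))
  have hHR : (∏ j, F j) ≫ R1 = 1 := by
    have h1 : ρ ≫ (∏ j, F j) ≫ R1 = ρ ≫ 1 := by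
      have h2 := hhR
      rw [MonObj.mul_comp, GrpObj.inv_comp, V_comp_R_eq_one _ _ (by omega) x', _root_.one_mul, inv_eq_one,
        Category.assoc] at h2
      rw [h2, MonObj.comp_one]
    rw [Category.assoc, Category.assoc] at h1
    exact (cancel_epi e).1 (cancel_pt (φ := (φ : B →ₐ[k] A)) hφ h1)
  obtain ⟨η', hη'⟩ := exists_comp_V (Nat.le_add_left 1 1) (Nat.le_add_right 1 1) (by omega) (∏ j, F j) hHR
  let h' : CoactBr.sp k A ⟶ Wk p k 1 := x' * (ρ ≫ η')⁻¹
  have hh' : h' ≫ V = h := by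
    rw [MonObj.mul_comp, GrpObj.inv_comp, Category.assoc, hη']
  haveI : IsMonHom h' := isMonHom_of_dl _ fun u v => cancel_V (Nat.le_add_left 1 1) (by
    rw [dl_comp, hh', dl_of_hom h, MonObj.one_comp])
  obtain ⟨a₀, ha₀⟩ := exists_wpt h'
  obtain ⟨c, hc⟩ := exists_wpt (e ≫ (g * η'))
  haveI : IsMonHom (wpt (k := k) p a₀) := ha₀ ▸ inferInstance
  refine ⟨a₀, isPrim_of_isMonHom (p := p), c, ?_⟩
  refine wpt_injective (k := k) (p := p) ?_
  show wpt (k := k) p ((φ : B →ₐ[k] A) c) = _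
  rw [← pt_comp_wpt, hc, ← Category.assoc, show CoactBr.pt (φ : B →ₐ[k] A) ≫ e = ρ from rfl, MonObj.comp_mul,
    show x - a₀ = x + -a₀ from sub_eq_add_neg _ _, wpt_add,
    show wpt (k := k) p (-a₀) = (wpt (k := k) p a₀)⁻¹ from hd_injective (by rw [hd_inv, hd_wpt, hd_wpt, map_neg]), ha₀,
    show wpt (k := k) p x = x' * (ρ ≫ g) from (inv_mul_cancel_right _ _).symm]
  show (ρ ≫ g) * (ρ ≫ η') = x' * (ρ ≫ g) * (x' * (ρ ≫ η')⁻¹)⁻¹
  generalize x' = X; generalize ρ ≫ g = G; generalize ρ ≫ η' = E'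
  apply Additive.ofMul.injective
  simp only [ofMul_mul, ofMul_inv]
  abel

end Groth.Agent.UniStr23
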