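import Groth.Agent.Lib.UniStr23.Quot
import Groth.Agent.Lib.GeomIrr18.Alg
import Groth.Agent.Lib.MultType.QuasiIso
import Groth.Prelude.Def_SGA7IX

/-!
# Isogenies and closed immersions through rational points

`PtSurj`, `Isog`; `injective_iff_ptSurj`; `isogeny_iff`; `finite_iff_finite_points`; `surjective_of_kerTrivial`.
-/

set_option autoImplicit false
set_option linter.style.haveILetI false
set_option backward.isDefEq.respectTransparency.types false
set_option maxSynthPendingDepth 3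

universe u

open CategoryTheory Limits AlgebraicGeometry MonObj MonoidalCategory CartesianMonoidalCategory
open scoped TensorProduct

noncomputable section

namespace Groth.Agent.UniStr23

variable {k : Type u} [Field k]

/-- Every rational point lifts. -/
def PtSurj {X Y : Over (Spec (CommRingCat.of k))} (g : X ⟶ Y) : Prop :=
  ∀ y : CoactBr.sp k k ⟶ Y, ∃ x : CoactBr.sp k k ⟶ X, x ≫ g = y

/-- Surjective with finite kernel on rational points. -/
def Isog {X Y : Over (Spec (CommRingCat.of k))} [GrpObj Y] (g : X ⟶ Y) : Prop :=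
  PtSurj g ∧ {x : CoactBr.sp k k ⟶ X | x ≫ g = 1}.Finite

section formal

variable {X Y Z : Over (Spec (CommRingCat.of k))}

theorem PtSurj.comp {f : X ⟶ Y} {g : Y ⟶ Z} (hf : PtSurj f) (hg : PtSurj g) : PtSurj (f ≫ g) := fun z => by
  obtain ⟨y, rfl⟩ := hg z
  obtain ⟨x, rfl⟩ := hf y
  exact ⟨x, (Category.assoc _ _ _).symm⟩

theorem PtSurj.of_comp {f : X ⟶ Y} {g : Y ⟶ Z} (h : PtSurj (f ≫ g)) : PtSurj g := fun z => by
  obtain ⟨x, rfl⟩ := h z
  exact ⟨x ≫ f, Category.assoc _ _ _⟩

theorem ptSurj_of_isIso (f : X ⟶ Y) [IsIso f] : PtSurj f := fun y => ⟨y ≫ inv f, by simp⟩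

variable [GrpObj X] [GrpObj Y] [GrpObj Z]

theorem Isog.comp {f : X ⟶ Y} {g : Y ⟶ Z} [IsMonHom f] (hf : Isog f) (hg : Isog g) : Isog (f ≫ g) := by
  refine ⟨hf.1.comp hg.1, ?_⟩
  choose l hl using fun y : CoactBr.sp k k ⟶ Y => hf.1 y
  refine ((hf.2.prod hg.2).image fun z => z.1 * l z.2).subset fun x hx => ?_
  refine ⟨(x * (l (x ≫ f))⁻¹, x ≫ f), ⟨?_, ?_⟩, inv_mul_cancel_right _ _⟩
  · show (x * (l (x ≫ f))⁻¹) ≫ f = 1
    rw [MonObj.mul_comp, GrpObj.inv_comp, hl, mul_inv_cancel]
  · show (x ≫ f) ≫ g = 1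
    rw [Category.assoc]
    exact hx

theorem isog_of_isIso (f : X ⟶ Y) [IsIso f] [IsMonHom f] : Isog f := by
  refine ⟨ptSurj_of_isIso f, (Set.finite_singleton 1).subset fun x hx => ?_⟩
  exact (cancel_mono f).1 ((show x ≫ f = 1 from hx).trans (MonObj.one_comp f).symm)

end formal

variable {A B C : Type u} [CommRing A] [CommRing B] [CommRing C] [HopfAlgebra k A] [HopfAlgebra k B]

variable [IsAlgClosed k]

omit [HopfAlgebra k B] in
/-- Finitely many points is finite dimensionality. -/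
theorem finite_iff_finite_points [Algebra k C] [Algebra.FiniteType k C] :
    Module.Finite k C ↔ Finite (C →ₐ[k] k) := by
  refine ⟨fun _ => inferInstance, fun hfin => ?_⟩
  haveI : IsNoetherianRing C := Algebra.FiniteType.isNoetherianRing k C
  haveI : IsJacobsonRing C := isJacobsonRing_of_finiteType (A := k)
  have hmax : {M : Ideal C | M.IsMaximal}.Finite := by
    refine (Set.finite_range fun z : C →ₐ[k] k => RingHom.ker z).subset fun M hM => ?_
    haveI : M.IsMaximal := hM
    obtain ⟨z, hz⟩ := HopfPts19.exists_point_ker (k := k) M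
    exact ⟨z, hz⟩
  haveI : Ring.KrullDimLE 0 C := Ring.KrullDimLE.mk₀ fun P hP => by
    classical
    have h1 : P.jacobson = P := (isJacobsonRing_iff.1 inferInstance) _ hP.isRadical
    have hS : {M : Ideal C | P ≤ M ∧ M.IsMaximal}.Finite := hmax.subset fun M h => h.2
    have h2 : hS.toFinset.inf id ≤ P := by
      conv_rhs => rw [← h1]
      exact le_sInf fun M hM => Finset.inf_le (hS.mem_toFinset.2 hM)
    obtain ⟨M, hM, hle⟩ := (Ideal.IsPrime.inf_le' hP).1 h2
    obtain ⟨hPM, hMmax⟩ := hS.mem_toFinset.1 hM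
    exact (le_antisymm hPM hle) ▸ hMmax
  haveI : IsArtinianRing C := isArtinianRing_iff_krullDimLE_zero.2 inferInstance
  exact Module.finite_of_isArtinianRing k C

omit [IsAlgClosed k] in
theorem pt_bijective [Algebra k C] :
    Function.Bijective (CoactBr.pt : (B →ₐ[k] C) → (CoactBr.sp k C ⟶ CoactBr.sp k B)) :=
  ⟨fun _ _ h => pt_injective h, fun g => exists_pt g⟩

theorem injective_of_ptSurj [IsDomain B] [Algebra.FiniteType k B] (φ : B →ₐc[k] A)
    (h : PtSurj (CoactBr.pt (φ : B →ₐ[k] A))) : Function.Injective φ := by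
  refine (injective_iff_map_eq_zero φ).2 fun b hb => GeomIrr.eq_zero_of_forall_algHom (k := k) fun z => ?_
  obtain ⟨x, hx⟩ := h (CoactBr.pt z)
  obtain ⟨w, rfl⟩ := exists_pt x
  rw [← CoactBr.pt_comp] at hx
  rw [← pt_injective hx, AlgHom.comp_apply]
  exact (congrArg w hb).trans (map_zero w)

theorem ptSurj_of_injective (φ : B →ₐc[k] A) (hφ : Function.Injective φ) :
    PtSurj (CoactBr.pt (φ : B →ₐ[k] A)) := by
  intro y
  obtain ⟨z, rfl⟩ := exists_pt y
  let e := AlgEquiv.ofInjective (φ : B →ₐ[k] A) hφ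
  obtain ⟨w, hw⟩ := (HopfPts19.isSub_range φ).exists_extend (z.comp e.symm.toAlgHom)
  refine ⟨CoactBr.pt w, ?_⟩
  rw [← CoactBr.pt_comp]
  congr 1
  refine AlgHom.ext fun b => ?_
  rw [AlgHom.comp_apply]
  have := hw (e b)
  rwa [AlgHom.comp_apply, show e.symm.toAlgHom (e b) = b from e.symm_apply_apply b] at this

omit [IsAlgClosed k] in
theorem injective_of_surjective_left [IsDomain B] (φ : B →ₐc[k] A)
    (h : Surjective (CoactBr.pt (φ : B →ₐ[k] A)).left) : Function.Injective φ := by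
  refine (injective_iff_map_eq_zero φ).2 fun b hb => ?_
  obtain ⟨P, hP⟩ := h.surj (⟨⊥, Ideal.isPrime_bot⟩ : PrimeSpectrum B)
  have h1 : b ∈ (PrimeSpectrum.comap (φ : B →ₐ[k] A).toRingHom P).asIdeal := by
    show φ b ∈ P.asIdeal
    rw [hb]; exact zero_mem _
  rw [show PrimeSpectrum.comap (φ : B →ₐ[k] A).toRingHom P = ⟨⊥, Ideal.isPrime_bot⟩ from hP] at h1
  exact (Submodule.mem_bot B).1 h1

variable [Algebra.FiniteType k A] [Algebra.FiniteType k B] [IsDomain B]

theorem surjective_left_iff (φ : B →ₐc[k] A) :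
    Surjective (CoactBr.pt (φ : B →ₐ[k] A)).left ↔ PtSurj (CoactBr.pt (φ : B →ₐ[k] A)) :=
  ⟨fun h => ptSurj_of_injective φ (injective_of_surjective_left φ h),
    fun h => (flat_surjective_pt φ (injective_of_ptSurj φ h)).2⟩

/-- The ideal of the kernel. -/
abbrev kerIdeal (φ : B →ₐc[k] A) : Ideal A := Ideal.map φ (RingHom.ker (Bialgebra.counitAlgHom k B))

omit [IsAlgClosed k] [Algebra.FiniteType k A] [Algebra.FiniteType k B] [IsDomain B] in
theorem isKernel_kerIdeal (φ : B →ₐc[k] A) :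
    haveI := MultTypeLib.isHopfIdeal_map_aug φ
    AlgGrp.IsKernel (CoactBr.pt (Bialgebra.Quotient.mkBialgHom (R := k) (kerIdeal φ) : A →ₐ[k] A ⧸ kerIdeal φ))
      (CoactBr.pt (φ : B →ₐ[k] A)) := by
  haveI := MultTypeLib.isHopfIdeal_map_aug φ
  exact isKernel_pt φ _ Ideal.Quotient.mk_surjective ((Ideal.mk_ker).trans rfl)

omit [IsDomain B] [Algebra.FiniteType k B] in
theorem finite_ker_points_iff (φ : B →ₐc[k] A) :
    {x : CoactBr.sp k k ⟶ CoactBr.sp k A | x ≫ CoactBr.pt (φ : B →ₐ[k] A) = 1}.Finite ↔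
      Module.Finite k (A ⧸ kerIdeal φ) := by
  haveI := MultTypeLib.isHopfIdeal_map_aug φ
  haveI : Algebra.FiniteType k (A ⧸ kerIdeal φ) :=
    Algebra.FiniteType.of_surjective (Ideal.Quotient.mkₐ k _) Ideal.Quotient.mk_surjective
  have hker := isKernel_kerIdeal φ
  let q := Bialgebra.Quotient.mkBialgHom (R := k) (kerIdeal φ)
  let F : ((A ⧸ kerIdeal φ) →ₐ[k] k) → (CoactBr.sp k k ⟶ CoactBr.sp k A) :=
    fun z => CoactBr.pt z ≫ CoactBr.pt (q : A →ₐ[k] A ⧸ kerIdeal φ)
  have hF : Function.Injective F := fun z z' h => by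
    have h' := pt_injective ((CoactBr.pt_comp _ _).trans (h.trans (CoactBr.pt_comp _ _).symm))
    exact AlgHom.ext fun a => by obtain ⟨a, rfl⟩ := Ideal.Quotient.mk_surjective a; exact AlgHom.congr_fun h' a
  have hrange : Set.range F = {x | x ≫ CoactBr.pt (φ : B →ₐ[k] A) = 1} := by
    refine Set.Subset.antisymm ?_ fun x hx => ?_
    · rintro _ ⟨z, rfl⟩
      show (CoactBr.pt z ≫ _) ≫ _ = 1
      rw [Category.assoc, hker.w, MonObj.one_eq_one, MonObj.comp_one, MonObj.comp_one]
    · have hx' : x ≫ CoactBr.pt (φ : B →ₐ[k] A) = toUnit _ ≫ η[CoactBr.sp k B] := by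
        rw [MonObj.one_eq_one, MonObj.comp_one]; exact hx
      obtain ⟨z, hz⟩ := exists_pt (hker.lift x (toUnit _) hx')
      exact ⟨z, by show CoactBr.pt z ≫ _ = x; rw [hz]; exact hker.lift_fst _ _ _⟩
  rw [← hrange, Set.finite_range_iff hF, finite_iff_finite_points]

/-- Isogenies between spectra of Hopf algebras, by points. -/
theorem isogeny_iff_pt (φ : B →ₐc[k] A) :
    SGA7.IsIsogenyOver (CoactBr.pt (φ : B →ₐ[k] A)) ↔ Isog (CoactBr.pt (φ : B →ₐ[k] A)) := by
  unfold SGA7.IsIsogenyOver Isog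
  rw [surjective_left_iff, finite_ker_points_iff]
  refine and_congr_right fun _ => ?_
  haveI := MultTypeLib.isHopfIdeal_map_aug φ
  have hfin : IsFinite (CoactBr.sp k (A ⧸ kerIdeal φ)).hom ↔ Module.Finite k (A ⧸ kerIdeal φ) :=
    (IsFinite.SpecMap_iff (CommRingCat.ofHom (algebraMap k (A ⧸ kerIdeal φ)))).trans RingHom.finite_algebraMap
  refine ⟨fun h => hfin.1 (h _ _ (isKernel_kerIdeal φ)), fun h N i hN => ?_⟩
  let e := IsPullback.isoIsPullback _ _ hN (isKernel_kerIdeal φ)
  haveI : IsFinite (CoactBr.sp k (A ⧸ kerIdeal φ)).hom := hfin.2 h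
  haveI : IsIso e.hom.left := inferInstanceAs (IsIso ((Over.forget _).map e.hom))
  rw [← Over.w e.hom]
  infer_instance

omit [IsDomain B] [Algebra.FiniteType k B] [Algebra.FiniteType k A] [IsAlgClosed k] in
/-- A homomorphism with trivial kernel is a closed immersion. -/
theorem surjective_of_kerTrivial (φ : B →ₐc[k] A)
    (h : ∀ {T : Over (Spec (CommRingCat.of k))} (x : T ⟶ CoactBr.sp k A),
      x ≫ CoactBr.pt (φ : B →ₐ[k] A) = 1 → x = 1) : Function.Surjective φ := by
  haveI := MultTypeLib.isHopfIdeal_map_aug φ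
  have hker := isKernel_kerIdeal φ
  let T := (φ : B →ₐ[k] A).range
  have hT' := HopfPts19.isSub_range φ
  have hT : HopfFlat.IsSub T := ⟨hT'.comul_mem, hT'.antipode_mem⟩
  have h1 := h _ (by rw [hker.w, MonObj.one_eq_one, MonObj.comp_one])
  rw [CoactBr.one_eq_pt] at h1
  have hq := pt_injective h1
  have hI : kerIdeal φ = RingHom.ker (Bialgebra.counitAlgHom k A) := by
    refine le_antisymm (Ideal.map_le_iff_le_comap.2 fun b hb => ?_) fun a ha => ?_
    · show Coalgebra.counit (R := k) (φ b) = 0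
      rw [CoalgHomClass.counit_comp_apply φ b]
      exact hb
    · refine Ideal.Quotient.eq_zero_iff_mem.1 ((AlgHom.congr_fun hq a).trans ?_)
      show algebraMap k (A ⧸ kerIdeal φ) (Bialgebra.counitAlgHom k A a) = 0
      rw [show Bialgebra.counitAlgHom k A a = 0 from ha, map_zero]
  have hJ : kerIdeal φ = HopfFlat.augJ T := by
    refine le_antisymm (Ideal.map_le_iff_le_comap.2 fun b hb => ?_) ?_
    · refine Ideal.subset_span ⟨⟨b, rfl⟩, ?_⟩
      rw [CoalgHomClass.counit_comp_apply φ b]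
      exact hb
    · refine Ideal.span_le.2 ?_
      rintro _ ⟨⟨b, rfl⟩, hb⟩
      refine Ideal.mem_map_of_mem _ ?_
      show Coalgebra.counit (R := k) b = 0
      rw [← CoalgHomClass.counit_comp_apply φ b]
      exact hb
  have htop := NormQuot.coinv_augJ_eq hT hJ
  intro a
  have ha : a ∈ NormQuot.coinv (Bialgebra.Quotient.mkBialgHom (R := k) (kerIdeal φ)) := by
    rw [NormQuot.mem_coinv]
    have key : ∀ z : A ⊗[k] A, TensorProduct.map (LinearMap.id : A →ₗ[k] A)
        (Bialgebra.Quotient.mkBialgHom (R := k) (kerIdeal φ) : A →ₗ[k] A ⧸ kerIdeal φ) z =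
        TensorProduct.rid k A ((Coalgebra.counit (R := k)).lTensor A z) ⊗ₜ[k] (1 : A ⧸ kerIdeal φ) := by
      intro z
      induction z with
      | zero => simp
      | add x y hx hy => simp only [map_add, hx, hy, TensorProduct.add_tmul]
      | tmul x y =>
        simp only [TensorProduct.map_tmul, LinearMap.id_apply, LinearMap.lTensor_tmul, TensorProduct.rid_tmul]
        rw [TensorProduct.smul_tmul, ← Algebra.algebraMap_eq_smul_one]
        exact congrArg (x ⊗ₜ[k] ·) (AlgHom.congr_fun hq y)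
    rw [key, Coalgebra.lTensor_counit_comul, TensorProduct.rid_tmul, one_smul]
  rw [htop] at ha
  exact ha

end Groth.Agent.UniStr23
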