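import Groth.Agent.Lib.UniStr23.Bridge

/-!
# Products of spectra and cancellation of injective maps

`prodIso A B : sp k (A ⊗ B) ≅ sp k A ⊗ sp k B`; `cancel_pt₂`, `cancel_pt₃`: products of dominant maps can be cancelled
in front of morphisms to Witt groups.
-/

set_option autoImplicit false
set_option linter.style.haveILetI false
set_option backward.isDefEq.respectTransparency.types false
set_option maxSynthPendingDepth 3

universe u

open CategoryTheory AlgebraicGeometry MonObj MonoidalCategory CartesianMonoidalCategory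
open Groth.Agent.WittHom23 Groth.Agent.WittExt23
open scoped TensorProduct

noncomputable section

namespace Groth.Agent.UniStr23

variable {k : Type u} [Field k]

section iso

variable (A B : Type u) [CommRing A] [CommRing B] [Algebra k A] [Algebra k B]

/-- The two projections of a product spectrum. -/
def prodHom : CoactBr.sp k (A ⊗[k] B) ⟶ CoactBr.sp k A ⊗ CoactBr.sp k B :=
  lift (CoactBr.pt Algebra.TensorProduct.includeLeft) (CoactBr.pt Algebra.TensorProduct.includeRight)

/-- The inverse. -/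
def prodInv : CoactBr.sp k A ⊗ CoactBr.sp k B ⟶ CoactBr.sp k (A ⊗[k] B) :=
  letI := (DiagGL.alg (CoactBr.sp k A ⊗ CoactBr.sp k B)).toAlgebra
  DiagGL.mk (Algebra.TensorProduct.lift (R := k) (S := k)
    ⟨DiagGL.ev (fst (CoactBr.sp k A) (CoactBr.sp k B)), DiagGL.ev_algebraMap _⟩
    ⟨DiagGL.ev (snd (CoactBr.sp k A) (CoactBr.sp k B)), DiagGL.ev_algebraMap _⟩ fun _ _ => .all _ _).toRingHom
    fun r => AlgHom.commutes _ r

theorem ev_prodInv (a : A) (b : B) :
    DiagGL.ev (prodInv (k := k) A B) (a ⊗ₜ[k] b) =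
      DiagGL.ev (fst (CoactBr.sp k A) (CoactBr.sp k B)) a * DiagGL.ev (snd (CoactBr.sp k A) (CoactBr.sp k B)) b := by
  rw [prodInv, DiagGL.ev_mk]
  letI := (DiagGL.alg (CoactBr.sp k A ⊗ CoactBr.sp k B)).toAlgebra
  exact Algebra.TensorProduct.lift_tmul _ _ _ a b

/-- The spectrum of a tensor product. -/
def prodIso : CoactBr.sp k (A ⊗[k] B) ≅ CoactBr.sp k A ⊗ CoactBr.sp k B where
  hom := prodHom A B
  inv := prodInv A B
  hom_inv_id := DiagGL.ev_injective fun z => by
    induction z with
    | zero => simp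
    | add x y hx hy => rw [map_add, map_add, hx, hy]
    | tmul a b =>
      rw [DiagGL.ev_comp, ev_prodInv, map_mul, ← DiagGL.ev_comp, ← DiagGL.ev_comp, prodHom, lift_fst, lift_snd,
        ev_pt', ev_pt', ← map_mul, Algebra.TensorProduct.includeLeft_apply, Algebra.TensorProduct.includeRight_apply,
        Algebra.TensorProduct.tmul_mul_tmul, _root_.mul_one, _root_.one_mul, ev_id]
  inv_hom_id := CartesianMonoidalCategory.hom_ext _ _
    (DiagGL.ev_injective fun a => by
      rw [Category.id_comp, Category.assoc, prodHom, lift_fst, DiagGL.ev_comp, ev_pt', ← ev_eq_app,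
        Algebra.TensorProduct.includeLeft_apply, ev_prodInv, map_one, _root_.mul_one])
    (DiagGL.ev_injective fun b => by
      rw [Category.id_comp, Category.assoc, prodHom, lift_snd, DiagGL.ev_comp, ev_pt', ← ev_eq_app,
        Algebra.TensorProduct.includeRight_apply, ev_prodInv, map_one, _root_.one_mul])

variable {A B}
variable {A' B' : Type u} [CommRing A'] [CommRing B'] [Algebra k A'] [Algebra k B']

theorem prodIso_hom_naturality (f : A' →ₐ[k] A) (g : B' →ₐ[k] B) :
    (prodIso A B).hom ≫ (CoactBr.pt f ⊗ₘ CoactBr.pt g) =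
      CoactBr.pt (Algebra.TensorProduct.map f g) ≫ (prodIso A' B').hom := by
  refine CartesianMonoidalCategory.hom_ext _ _ ?_ ?_
  · simp only [prodIso, prodHom, Category.assoc, tensorHom_fst, lift_fst_assoc, lift_fst, ← CoactBr.pt_comp,
      Algebra.TensorProduct.map_comp_includeLeft]
  · simp only [prodIso, prodHom, Category.assoc, tensorHom_snd, lift_snd_assoc, lift_snd, ← CoactBr.pt_comp,
      Algebra.TensorProduct.map_comp_includeRight]

theorem map_injective {f : A' →ₐ[k] A} (hf : Function.Injective f) {g : B' →ₐ[k] B} (hg : Function.Injective g) :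
    Function.Injective (Algebra.TensorProduct.map f g) := by
  show Function.Injective (TensorProduct.map f.toLinearMap g.toLinearMap)
  exact TensorProduct.map_injective_of_flat_flat _ _ hf hg

variable {p : ℕ} [hp : Fact p.Prime] [CharP k p] {m : ℕ}

theorem cancel_pt₂ {f : A' →ₐ[k] A} (hf : Function.Injective f) {g : B' →ₐ[k] B} (hg : Function.Injective g)
    {h h' : CoactBr.sp k A' ⊗ CoactBr.sp k B' ⟶ Wk p k m}
    (e : (CoactBr.pt f ⊗ₘ CoactBr.pt g) ≫ h = (CoactBr.pt f ⊗ₘ CoactBr.pt g) ≫ h') : h = h' := by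
  have e' := congrArg (fun z => (prodIso A B).hom ≫ z) e
  simp only [← Category.assoc, prodIso_hom_naturality] at e'
  simp only [Category.assoc] at e'
  exact (cancel_epi (prodIso A' B').hom).1 (cancel_pt (map_injective hf hg) e')

theorem cancel_pt₃ {f : A' →ₐ[k] A} (hf : Function.Injective f)
    {h h' : CoactBr.sp k A' ⊗ (CoactBr.sp k A' ⊗ CoactBr.sp k A') ⟶ Wk p k m}
    (e : (CoactBr.pt f ⊗ₘ (CoactBr.pt f ⊗ₘ CoactBr.pt f)) ≫ h =
      (CoactBr.pt f ⊗ₘ (CoactBr.pt f ⊗ₘ CoactBr.pt f)) ≫ h') : h = h' := by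
  have hn : (𝟙 (CoactBr.sp k A) ⊗ₘ (prodIso A A).hom) ≫ (CoactBr.pt f ⊗ₘ (CoactBr.pt f ⊗ₘ CoactBr.pt f)) =
      (CoactBr.pt f ⊗ₘ CoactBr.pt (Algebra.TensorProduct.map f f)) ≫ (𝟙 (CoactBr.sp k A') ⊗ₘ (prodIso A' A').hom) := by
    rw [tensorHom_comp_tensorHom, tensorHom_comp_tensorHom, prodIso_hom_naturality, Category.id_comp, Category.comp_id]
  have e' := congrArg (fun z => (𝟙 (CoactBr.sp k A) ⊗ₘ (prodIso A A).hom) ≫ z) e
  simp only [← Category.assoc, hn] at e'
  simp only [Category.assoc] at e'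
  exact (cancel_epi (𝟙 (CoactBr.sp k A') ⊗ₘ (prodIso A' A').hom)).1 (cancel_pt₂ hf (map_injective hf hf) e')

end iso

end Groth.Agent.UniStr23
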